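import Cfsg.Agent.Mrg.Omega.SQ1.BauL
import Cfsg.Agent.PLocal.OffenderStep


/-!
# THEOREM FPB (OMEGA #16134, helper526)

`Bk.exists_fix`: a Baumann block `(L,V)` over `B = bau S` with `V ≤ Y ≤ S`, `Y` elementary abelian and
normalised by `S` and `L`: `C_{Y ⊓ Z_J}(S)` is not centralised by `L`.
-/

set_option autoImplicit false

namespace Cfsg.Agent.Omega.NO3b.FPB.Main

open Subgroup Cfsg Cfsg.Agent.PLocal.ThompsonJ Cfsg.Agent.ZN Cfsg.Agent.ZN.ChoiceBase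
open Cfsg.Agent.PLocal.ElemAbSup
open Cfsg.Agent.Omega.SQ1.Bau (mem_AA_of_comm zj_le_AA elem_comm elem_sq mem_sup_comm card_sup_comm
  mem_sup_norm Mv not_mv_iff mv_inv exists_min)
open Cfsg.Agent.Omega.SQ1.BauK.InK (QL mem_QL not_QL)
open Cfsg.Agent.Omega.NO3b.FPB.Base Cfsg.Agent.Omega.NO3b.FPB.Claim
open Cfsg.Agent.Omega.NO3b.FPB.CaseTwo
open scoped Pointwise

universe u

variable {G : Type u} [Group G] {S Y L V : Subgroup G}

/-- A `2`-group `S₁` normalising `P < B ≤ S₁` fixes a nontrivial coset of `B / P`. -/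
theorem exists_fixed_coset [Finite G] {S₁ B P : Subgroup G} (h2 : IsPGroup 2 S₁) (hBS : B ≤ S₁)
    (hB : S₁ ≤ normalizer (B : Set G)) (hP : S₁ ≤ normalizer (P : Set G)) (hPB : P ≤ B)
    (hne : ¬ B ≤ P) : ∃ b ∈ B, b ∉ P ∧ ∀ s ∈ S₁, b⁻¹ * (s * b * s⁻¹) ∈ P := by
  haveI : Fact (Nat.Prime 2) := ⟨Nat.prime_two⟩
  have hPS : P ≤ S₁ := hPB.trans hBS
  haveI hPn : (P.subgroupOf S₁).Normal := by
    rw [normal_subgroupOf_iff_le_normalizer hPS]; exact hP
  haveI hBn : (B.subgroupOf S₁).Normal := by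
    rw [normal_subgroupOf_iff_le_normalizer hBS]; exact hB
  let π := QuotientGroup.mk' (P.subgroupOf S₁)
  haveI : ((B.subgroupOf S₁).map π).Normal := hBn.map π (QuotientGroup.mk'_surjective _)
  have hQ : IsPGroup 2 (S₁ ⧸ P.subgroupOf S₁) := h2.to_quotient _
  have hQ' : IsPGroup 2 (⊤ : Subgroup (S₁ ⧸ P.subgroupOf S₁)) := hQ.to_subgroup _
  have hne' : (B.subgroupOf S₁).map π ≠ ⊥ := by
    intro h0
    apply hne
    intro b hb
    have h1 : π ⟨b, hBS hb⟩ ∈ (B.subgroupOf S₁).map π := ⟨⟨b, hBS hb⟩, mem_subgroupOf.2 hb, rfl⟩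
    rw [h0, mem_bot] at h1
    exact mem_subgroupOf.1 ((QuotientGroup.eq_one_iff _).1 h1)
  have h3 := Cfsg.Agent.PLocal.OffenderStep.inf_centralizer_ne_bot ((B.subgroupOf S₁).map π)
    (⊤ : Subgroup (S₁ ⧸ P.subgroupOf S₁)) (hQ.to_subgroup _) hQ' (by
      rw [normalizer_eq_top]) hne'
  obtain ⟨y, hy, hy1⟩ := (Subgroup.bot_or_exists_ne_one _).resolve_left h3
  obtain ⟨hyB, hyc⟩ := mem_inf.1 hy
  obtain ⟨b, hb, rfl⟩ := hyB
  refine ⟨b, mem_subgroupOf.1 hb, fun h4 => hy1 ((QuotientGroup.eq_one_iff _).2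
    (mem_subgroupOf.2 h4)), fun s hs => ?_⟩
  have h5 := mem_centralizer_iff.1 hyc (π ⟨s, hs⟩) trivial
  have h6 : π (b⁻¹ * (⟨s, hs⟩ * b * ⟨s, hs⟩⁻¹)) = 1 := by
    rw [map_mul, map_mul, map_mul, map_inv, map_inv, h5]
    group
  exact mem_subgroupOf.1 ((QuotientGroup.eq_one_iff _).1 h6)

/-- The product of the conjugates of a vector over the cosets of its stabiliser. -/
theorem exists_prod [Finite G] {S₁ C : Subgroup G} (hY : IsElementaryAbelian 2 Y)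
    (hSY : S ≤ normalizer (Y : Set G)) {x : G} (hx : x ∈ Y)
    (h1 : ∀ s ∈ S₁, s * x = x * s) (hC : ∀ s ∈ S, s ∉ S₁ → s * x * s⁻¹ ∈ C)
    {D : Subgroup G} (hD : ∀ s ∈ S, s * x * s⁻¹ ∈ D) :
    ∃ y ∈ Y, y ∈ D ∧ (∀ s ∈ S, s * y = y * s) ∧ y * x⁻¹ ∈ C := by
  classical
  letI : CommGroup Y := { (inferInstance : Group Y) with
    mul_comm := fun a b => Subtype.ext (elem_comm hY a a.2 b b.2) }
  let T := S₁.subgroupOf S
  let f : S ⧸ T → Y := Quotient.lift (fun s : S => (⟨(s : G) * x * (s : G)⁻¹,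
    (mem_normalizer_iff.1 (hSY s.2) x).1 hx⟩ : Y)) (by
      intro a b hab
      have h2 : a⁻¹ * b ∈ T := QuotientGroup.leftRel_apply.1 hab
      have h3 := h1 _ (mem_subgroupOf.1 h2)
      apply Subtype.ext
      show (a : G) * x * (a : G)⁻¹ = b * x * (b : G)⁻¹
      have h4 : ((a⁻¹ * b : S) : G) = (a : G)⁻¹ * b := by simp
      rw [h4] at h3
      calc (a : G) * x * (a : G)⁻¹ = a * (x * ((a : G)⁻¹ * b)) * (b : G)⁻¹ := by group
        _ = a * ((a : G)⁻¹ * b * x) * (b : G)⁻¹ := by rw [h3]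
        _ = _ := by group)
  have hf : ∀ s : S, ((f (QuotientGroup.mk s) : Y) : G) = (s : G) * x * (s : G)⁻¹ := fun s => rfl
  haveI : Fintype (S ⧸ T) := Fintype.ofFinite _
  let y : Y := ∏ q : S ⧸ T, f q
  have hYD : ∀ q : S ⧸ T, ((f q : Y) : G) ∈ D := by
    intro q
    obtain ⟨s, rfl⟩ := QuotientGroup.mk_surjective q
    rw [hf]; exact hD s s.2
  refine ⟨y, y.2, ?_, ?_, ?_⟩
  · have : y ∈ D.subgroupOf Y := Subgroup.prod_mem _ fun q _ => mem_subgroupOf.2 (hYD q)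
    exact mem_subgroupOf.1 this
  · intro s hs
    let φ : Y →* Y := MonoidHom.mk' (fun v => ⟨s * v * s⁻¹, (mem_normalizer_iff.1 (hSY hs) v).1 v.2⟩)
      (by
        intro a b
        apply Subtype.ext
        show s * (a * b) * s⁻¹ = s * a * s⁻¹ * (s * b * s⁻¹)
        group)
    have h2 : φ y = y := by
      show φ (∏ q : S ⧸ T, f q) = ∏ q : S ⧸ T, f q
      rw [map_prod]
      have h3 : ∀ q : S ⧸ T, φ (f q) = f ((⟨s, hs⟩ : S) • q) := by
        intro q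
        obtain ⟨t, rfl⟩ := QuotientGroup.mk_surjective q
        apply Subtype.ext
        show s * (t * x * (t : G)⁻¹) * s⁻¹ = (s * t) * x * (s * (t : G))⁻¹
        group
      rw [Finset.prod_congr rfl fun q _ => h3 q]
      exact Fintype.prod_equiv (MulAction.toPerm (⟨s, hs⟩ : S)) _ _ fun q => rfl
    have h4 : s * (y : G) * s⁻¹ = y := congrArg Subtype.val h2
    calc s * (y : G) = (s * y * s⁻¹) * s := by group
      _ = y * s := by rw [h4]
  · have h2 : y = f (QuotientGroup.mk 1) * ∏ q ∈ Finset.univ.erase (QuotientGroup.mk 1), f q :=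
      (Finset.mul_prod_erase _ _ (Finset.mem_univ _)).symm
    have h3 : (∏ q ∈ Finset.univ.erase (QuotientGroup.mk 1), f q) ∈ C.subgroupOf Y := by
      refine Subgroup.prod_mem _ fun q hq => mem_subgroupOf.2 ?_
      obtain ⟨t, rfl⟩ := QuotientGroup.mk_surjective q
      rw [hf]
      refine hC t t.2 fun ht => (Finset.mem_erase.1 hq).1 ?_
      rw [QuotientGroup.eq]
      exact mem_subgroupOf.2 (by simpa using inv_mem ht)
    have h4 : (f (QuotientGroup.mk 1) : G) = x := by rw [hf]; simp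
    have h5 : (y : G) * x⁻¹ = ((∏ q ∈ Finset.univ.erase (QuotientGroup.mk 1), f q : Y) : G) := by
      rw [h2, mul_comm, Subgroup.coe_mul, h4, mul_inv_cancel_right]
    rw [h5]
    exact mem_subgroupOf.1 h3

/-- **THEOREM FPB.** -/
theorem exists_fix [Finite G] (h2S : IsPGroup 2 S) (hY : IsElementaryAbelian 2 Y) (hYS : Y ≤ S)
    (hSY : S ≤ normalizer (Y : Set G)) (k : Bk S Y L V) :
    ∃ y ∈ Y, y ∈ zj S ∧ (∀ s ∈ S, s * y = y * s) ∧ ∃ l ∈ L, l * y ≠ y * l := by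
  set P := QL S V with hPdef
  have hPB : P ≤ bau S := Bk.PB
  set S₁ := S ⊓ normalizer (P : Set G) with hS₁
  have hSB : S ≤ normalizer (bau S : Set G) :=
    Subgroup.le_normalizer.trans (normalizer_le_bau S)
  have hBS₁ : bau S ≤ S₁ := le_inf (bau_le S) (k.BL.trans k.LP)
  obtain ⟨A, hA, hAP⟩ := k.off
  have hBP : ¬ bau S ≤ P := fun h => hAP (((le_jj hA).trans (jj_le_bau S)).trans h)
  obtain ⟨b, hb, hbP, hbS⟩ := exists_fixed_coset (h2S.to_le inf_le_left) hBS₁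
    (inf_le_left.trans hSB) inf_le_right hPB hBP
  -- `C_Y(P) = V C_Y(B)`
  obtain ⟨-, h2, h3, -⟩ := k.order hY hYS k.VY le_rfl ((BB.self Y A).star hA hYS hY) hAP
  have hCY : ∀ v ∈ cW Y P, ∃ v1 ∈ V, ∃ c ∈ cW Y (bau S), v = v1 * c := by
    intro v hv
    have h4 : v ∈ V ⊔ cW Y A := by
      rw [← h3]; exact cW_anti Y inf_le_right hv
    obtain ⟨v1, hv1, c, hc, rfl⟩ := mem_sup_comm
      (fun a ha b hb => elem_comm hY a (k.VY ha) b (cW_le Y A hb)) h4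
    refine ⟨v1, hv1, c, mem_cW.2 ⟨cW_le Y A hc, fun e he => ?_⟩, rfl⟩
    obtain ⟨a, ha, p, hp, rfl⟩ := h2 e he
    have hpc : p * c = c * p := by
      have h5 := (mem_cW.1 hv).2 p hp
      have h6 : p * v1 = v1 * p := Bk.P_cent hp hv1
      have h7 : p * (v1 * c) = v1 * (p * c) := by rw [← mul_assoc, h6]; group
      rw [h7, mul_assoc v1 c p] at h5
      exact mul_left_cancel h5
    have hac := (mem_cW.1 hc).2 a ha
    calc a * p * c = a * (p * c) := by group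
      _ = (a * c) * p := by rw [hpc]; group
      _ = c * (a * p) := by rw [hac]; group
  -- the group `X_b`
  have hCPn : S₁ ≤ normalizer ((cW Y P : Subgroup G) : Set G) := by
    intro s hs
    rw [mem_normalizer_iff_cj]
    unfold cW
    rw [cj_inf, cj_centralizer, cj_eq_of_mem_normalizer (hSY hs.1), cj_eq_of_mem_normalizer hs.2]
  have hbCP : ∀ v ∈ cW Y P, b * v * b⁻¹ ∈ cW Y P := fun v hv =>
    conj_mem_of_norm hCPn (hBS₁ hb) hv
  have hVC : V ≤ cW Y P := fun v hv => mem_cW.2 ⟨k.VY hv, fun p hp => Bk.P_cent hp hv⟩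
  let φ : ↥(cW Y P) →* G := MonoidHom.mk' (fun v => b * v * b⁻¹ * (v : G)⁻¹) (by
    intro v w
    have h5 : (v : G) * w = w * v := elem_comm hY v (cW_le Y P v.2) w (cW_le Y P w.2)
    have h6 : (v : G)⁻¹ * (b * w * b⁻¹ * (w : G)⁻¹) = (b * w * b⁻¹ * (w : G)⁻¹) * (v : G)⁻¹ :=
      elem_comm hY _ (inv_mem (cW_le Y P v.2)) _
        (mul_mem (cW_le Y P (hbCP w w.2)) (inv_mem (cW_le Y P w.2)))
    show b * ((v : G) * w) * b⁻¹ * ((v : G) * w)⁻¹ =
      b * v * b⁻¹ * (v : G)⁻¹ * (b * w * b⁻¹ * (w : G)⁻¹)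
    calc b * ((v : G) * w) * b⁻¹ * ((v : G) * w)⁻¹
        = b * v * b⁻¹ * ((b * w * b⁻¹ * (w : G)⁻¹) * (v : G)⁻¹) := by group
      _ = b * v * b⁻¹ * ((v : G)⁻¹ * (b * w * b⁻¹ * (w : G)⁻¹)) := by rw [h6]
      _ = _ := by group)
  have hφ : ∀ x : G, x ∈ φ.range ↔ ∃ v ∈ cW Y P, x = b * v * b⁻¹ * v⁻¹ := by
    intro x
    constructor
    · rintro ⟨v, rfl⟩
      exact ⟨v, v.2, rfl⟩
    · rintro ⟨v, hv, rfl⟩
      exact ⟨⟨v, hv⟩, rfl⟩
  have hφV : ∀ x : G, x ∈ φ.range ↔ ∃ v ∈ V, x = b * v * b⁻¹ * v⁻¹ := by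
    intro x
    rw [hφ]
    constructor
    · rintro ⟨v, hv, rfl⟩
      obtain ⟨v1, hv1, c, hc, rfl⟩ := hCY v hv
      exact ⟨v1, hv1, comm_drop ((mem_cW.1 hc).2 b hb)⟩
    · rintro ⟨v, hv, rfl⟩
      exact ⟨v, hVC hv, rfl⟩
  have hbL : b ∈ L := k.BL hb
  have hφY : φ.range ≤ Y := by
    intro x hx
    obtain ⟨v, hv, rfl⟩ := (hφV x).1 hx
    exact k.VY (mul_mem (conj_mem_of_norm k.LV hbL hv) (inv_mem hv))
  have hφn : S₁ ≤ normalizer (φ.range : Set G) := by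
    intro s hs
    refine norm_of_conj fun x hx => ?_
    obtain ⟨v, hv, rfl⟩ := (hφ x).1 hx
    rw [hφ]
    refine ⟨s * v * s⁻¹, conj_mem_of_norm hCPn hs hv, ?_⟩
    have h5 := hbS s hs
    have h6 := (mem_cW.1 (conj_mem_of_norm hCPn hs hv)).2 _ h5
    have e1 : s * (b * v * b⁻¹ * v⁻¹) * s⁻¹ =
        (b * (b⁻¹ * (s * b * s⁻¹))) * (s * v * s⁻¹) * (b * (b⁻¹ * (s * b * s⁻¹)))⁻¹ *
          (s * v * s⁻¹)⁻¹ := by group
    rw [e1, comm_drop' h6]
  have hφne : φ.range ≠ ⊥ := by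
    intro h0
    apply hbP
    refine mem_QL.2 ⟨hb, fun v hv => ?_⟩
    have h5 := (hφV (b * v * b⁻¹ * v⁻¹)).2 ⟨v, hv, rfl⟩
    rw [h0, mem_bot] at h5
    exact comm_iff.2 h5
  haveI : Fact (Nat.Prime 2) := ⟨Nat.prime_two⟩
  have h6 := Cfsg.Agent.PLocal.OffenderStep.inf_centralizer_ne_bot φ.range S₁
    (h2S.to_le (hφY.trans hYS)) (h2S.to_le inf_le_left) hφn hφne
  obtain ⟨x, hx, hx1⟩ := (Subgroup.bot_or_exists_ne_one _).resolve_left h6
  obtain ⟨hxr, hxc⟩ := mem_inf.1 hx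
  obtain ⟨v, hv, e⟩ := (hφV x).1 hxr
  have hxL : x ∉ centralizer (L : Set G) := by
    intro h7
    apply hx1
    rw [e] at h7 ⊢
    exact comm_iff.1 (k.faith v hv b hb fun l hl => mem_centralizer_iff.1 h7 l hl)
  have hzjn : ∀ s ∈ S, ∀ z ∈ zj S, s * z * s⁻¹ ∈ zj S := fun s hs z hz =>
    (mem_normalizer_iff.1 (normalizer_le_of_cj (F := zj) zj_cj S (Subgroup.le_normalizer hs)) z).1 hz
  obtain ⟨y, hyY, hyD, hys, hyx⟩ := exists_prod (S := S) (S₁ := S₁) (C := centralizer (L : Set G))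
    (D := zj S) hY hSY (hφY hxr) (fun s hs => mem_centralizer_iff.1 hxc s hs) (by
      intro s hs hns
      have hne : QL S V ≠ QL S (cj s V) := by
        intro h7
        apply hns
        refine mem_inf.2 ⟨hs, ?_⟩
        rw [mem_normalizer_iff_cj]
        have h8 := QL_cj s S V
        rw [cj_eq_of_mem_normalizer (Subgroup.le_normalizer hs), ← h7] at h8
        exact h8.symm
      have k' := Bk.conj k (g := s) (cj_eq_of_mem_normalizer (hSY hs))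
      rw [cj_eq_of_mem_normalizer (Subgroup.le_normalizer hs)] at k'
      have h8 := claim hY hYS k k' hne (s * b * s⁻¹) (conj_mem_of_norm hSB hs hb) (s * v * s⁻¹)
        (conj_mem_cj hv)
      rw [comm_el, ← e] at h8
      exact h8) (fun s hs => hzjn s hs x (by rw [e]; exact k.quad b hb v hv))
  refine ⟨y, hyY, hyD, hys, ?_⟩
  by_contra hcon
  push Not at hcon
  apply hxL
  have h9 : y ∈ centralizer (L : Set G) := mem_centralizer_iff.2 hcon
  have h10 := mul_mem (inv_mem hyx) h9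
  have e2 : (y * x⁻¹)⁻¹ * y = x := by group
  rwa [e2] at h10

/-- `L` does not centralise `Ω₁ Z(S)`. -/
theorem not_le_centralizer [Finite G] (h2S : IsPGroup 2 S) (hY : IsElementaryAbelian 2 Y)
    (hYS : Y ≤ S) (hSY : S ≤ normalizer (Y : Set G)) (k : Bk S Y L V) :
    ¬ L ≤ centralizer (zc S : Set G) := by
  intro hL
  obtain ⟨y, hy, -, hys, l, hl, hne⟩ := exists_fix h2S hY hYS hSY k
  refine hne (mem_centralizer_iff.1 (hL hl) y ?_).symm
  exact mem_zc.2 ⟨hYS hy, elem_sq hY y hy, hys⟩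

end Cfsg.Agent.Omega.NO3b.FPB.Main
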