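import Cfsg.Agent.Mrg.Omega.SQ1.FFSymMain
import Cfsg.Agent.Mrg.Omega.SQ1.FFKNat

section


/-!
# FPB: the `q = 2` Baumann input for an arbitrary minimal parabolic

`SQ1/FFSymMain.lean` for `MinH H T` with `J(T) ≰ O₂(H)` instead of the chosen configuration: `main`:
`FFThm.SymK` (`m ≥ 1`) and `NoOver` give `BauS.In` and `BauS.PermR`.
-/

set_option autoImplicit false
set_option linter.unusedSectionVars false
set_option linter.unusedVariables false

namespace Cfsg.Agent.Omega.NO3b.FPB.SymIn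

open Subgroup Cfsg Cfsg.Agent.PLocal.ThompsonJ Cfsg.Agent.ZN Cfsg.Agent.ZN.ChoiceBase
open Cfsg.Agent.ZN.ChoiceSit
open Cfsg.Agent.Omega.SQ1 Cfsg.Agent.Omega.SQ1.FFOne Cfsg.Agent.Omega.SQ1.VOf
open Cfsg.Agent.Omega.SQ1.FFSym
open Cfsg.Agent.Omega.FFThm (ActsSym SymK NoOver Off)
open Cfsg.Agent.Omega.SQ1.BauS (Sim)
open Cfsg.Agent.Omega.FrameFF (cv)

universe v

variable {G : Type v} [Group G] {T H D : Subgroup G} {k m : ℕ}

/-- `C_H(D) ∩ C_H(V/D)` and `T` do not generate `H`. -/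
theorem ker_sup_ne (hmn : MinH H T) [Finite G] (N : SymK T H (zl T H) D k m) (hk : 0 < k)
    (hm : 1 ≤ m) : Ker T H (zl T H) D N zl_norm ⊔ T ≠ H := by
  set R := Ker T H (zl T H) D N zl_norm with hR
  set F := Fix0 T H (zl T H) D N zl_norm with hF
  have hTF : T ≤ F := by
    intro t ht
    obtain ⟨σ, τ, hta⟩ := N.perm t (hmn.syl.1 ht)
    refine ⟨hmn.syl.1 ht, σ, fun v hv i => ?_⟩
    have h3 := hta v hv i 0
    rwa [N.fix0 t ht σ τ hta i] at h3
  have hRF : R ≤ F := fun x hx => ⟨hx.1, 1, fun v hv i => by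
    rw [hx.2.2 v hv, Equiv.Perm.one_apply]⟩
  intro hcon
  obtain ⟨a, b, ha, hb, hab⟩ := exists_three_pts hm
  obtain ⟨x, hx, hxa, -⟩ := N.lift (Pi.mulSingle ⟨0, hk⟩ (Equiv.swap 0 a))
  have hxF : x ∈ F := (sup_le hRF hTF) (by rw [hcon]; exact hx)
  obtain ⟨-, σ, hσ⟩ := hxF
  set j : Fin k := ⟨0, hk⟩ with hj
  obtain ⟨v, hv, hev⟩ := N.surj (E j a + E j b) fun i => by
    simp only [Pi.add_apply, Finset.sum_add_distrib, E_sum]
    exact CharTwo.add_self_eq_zero _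
  have h3 := hxa v hv j a
  have h4 := hσ v hv (σ⁻¹ j)
  rw [perm_inv_self] at h4
  rw [Equiv.Perm.one_apply, Pi.mulSingle_eq_same, Equiv.swap_apply_right, h4, hev] at h3
  simp only [Pi.add_apply, E, true_and, if_true, hab, if_false, add_zero] at h3
  rw [if_neg (fun h => ha h.2.symm), if_neg (fun h => hb h.2.symm), add_zero] at h3
  exact absurd h3 (by decide)

/-- `C_H(V) T ≠ H` -/
theorem cent_sup_ne (hmn : MinH H T) [Finite G] (N : SymK T H (zl T H) D k m) (hk : 0 < k)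
    (hm : 1 ≤ m) (hDV : D ≤ zl T H) : (H ⊓ centralizer (zl T H : Set G)) ⊔ T ≠ H := by
  intro h0
  apply ker_sup_ne hmn N hk hm
  have hle : Ker T H (zl T H) D N zl_norm ≤ H := fun x hx => hx.1
  apply le_antisymm (sup_le hle hmn.syl.1)
  refine h0.ge.trans (sup_le_sup ?_ le_rfl)
  rintro x ⟨hx, hxc⟩
  have h1 : ∀ v ∈ zl T H, x * v = v * x := fun v hv => (mem_centralizer_iff.1 hxc v hv).symm
  refine ⟨hx, fun d hd => h1 d (hDV hd), fun v hv => ?_⟩
  have h2 : x * v * x⁻¹ = v := by rw [h1 v hv]; group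
  rw [h2]

theorem cT (hmn : MinH H T) [Finite G]
    (hne : (H ⊓ centralizer (zl T H : Set G)) ⊔ T ≠ H) {t : G} (ht : t ∈ T)
    (hc : ∀ v ∈ zl T H, t * v = v * t) : t ∈ o2 H :=
  hmn.inf_le inf_le_left cent_norm hne
    ⟨ht, hmn.syl.1 ht, mem_centralizer_iff.2 fun v hv => (hc v hv).symm⟩

/-- some `A ∈ A(T)` is an offender on `V` -/
theorem exists_off (hmn : MinH H T) [Finite G]
    (hne : (H ⊓ centralizer (zl T H : Set G)) ⊔ T ≠ H) (hJ : ¬ jj T ≤ o2 H) :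
    ∃ A ∈ AA T, Off (zl T H) A := by
  by_contra hcon
  push Not at hcon
  apply hJ
  intro x hx
  refine cT hmn hne (jj_le T hx) fun v hv => ?_
  have hle : jj T ≤ centralizer (zl T H : Set G) := by
    rw [jj_eq]
    refine sSup_le fun A hA => ?_
    by_contra hAc
    exact hcon A hA (FFOf.off_of_AA hmn hA hAc)
  exact (mem_centralizer_iff.1 (hle hx) v hv).symm

/-- **An element of `H` which centralises `D` and `V / D` centralises `V`.** -/
theorem cent (hmn : MinH H T) [Finite G] (N : SymK T H (zl T H) D k m) (hk : 0 < k)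
    (hm : 1 ≤ m) (hDV : D ≤ zl T H) (hDn : ∀ h ∈ H, ∀ v ∈ D, h * v * h⁻¹ ∈ D) {g : G} (hg : g ∈ H)
    (h1 : ∀ d ∈ D, g * d = d * g) (h2 : ∀ v ∈ zl T H, N.e (g * v * g⁻¹) = N.e v) :
    ∀ v ∈ zl T H, g * v = v * g := by
  have hV : ∀ g ∈ H, ∀ v ∈ zl T H, g * v * g⁻¹ ∈ zl T H := zl_norm
  set R := Ker T H (zl T H) D N zl_norm with hR
  have hRn : ∀ h ∈ H, ∀ r ∈ R, h * r * h⁻¹ ∈ R := by
    rintro x hx r ⟨hr, hr1, hr2⟩
    refine ⟨mul_mem (mul_mem hx hr) (inv_mem hx), fun d hd => ?_, fun v hv => ?_⟩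
    · have hd' : x⁻¹ * d * x ∈ D := by
        have := hDn x⁻¹ (inv_mem hx) d hd
        rwa [inv_inv] at this
      have h3 := hr1 _ hd'
      calc x * r * x⁻¹ * d = x * (r * (x⁻¹ * d * x)) * x⁻¹ := by group
        _ = x * ((x⁻¹ * d * x) * r) * x⁻¹ := by rw [h3]
        _ = _ := by group
    · set w := x⁻¹ * v * x with hw
      have hwV : w ∈ zl T H := by
        have := hV x⁻¹ (inv_mem hx) v hv
        rwa [inv_inv] at this
      obtain ⟨σ, τ, hxa⟩ := N.perm x hx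
      have e1 : x * r * x⁻¹ * v * (x * r * x⁻¹)⁻¹ = x * (r * w * r⁻¹) * x⁻¹ := by rw [hw]; group
      have e2 : v = x * w * x⁻¹ := by rw [hw]; group
      rw [e1]
      conv_rhs => rw [e2]
      funext i y
      have h3 := hxa _ (hV r hr w hwV) (σ⁻¹ i) ((τ (σ⁻¹ i))⁻¹ y)
      have h4 := hxa w hwV (σ⁻¹ i) ((τ (σ⁻¹ i))⁻¹ y)
      rw [perm_inv_self, perm_inv_self] at h3 h4
      rw [h3, h4, hr2 w hwV]
  have hRH : R ≤ H := fun x hx => hx.1
  have h3 := hmn.inf_le hRH hRn (ker_sup_ne hmn N hk hm)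
  -- 2-elements of `R`
  have h4 : ∀ x ∈ R, (∃ n : ℕ, x ^ 2 ^ n = 1) → ∀ v ∈ zl T H, x * v = v * x := by
    intro x hx hx2
    obtain ⟨y, hy, hyT⟩ := syl_elt hmn.syl hx.1 hx2
    have h5 := h3 ⟨hyT, hRn y hy x hx⟩
    have h6 : x ∈ o2 H := by
      have := conj_mem_of_norm (le_normalizer_o2 H (inv_mem hy)) h5
      have e1 : y⁻¹ * (y * x * y⁻¹) * y⁻¹⁻¹ = x := by group
      rwa [e1] at this
    exact VOf.MinH.o2_cent hmn x h6
  -- squares
  have h5 : ∀ v ∈ zl T H, (g * g) * v = v * (g * g) := by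
    intro v hv
    have hv' := hV g hg v hv
    have hδ : g * v * g⁻¹ * v ∈ D := by
      rw [← N.ker _ (mul_mem hv' hv), N.mul _ hv' v hv, h2 v hv]
      funext i x
      exact CharTwo.add_self_eq_zero _
    have hvv : v * v = 1 := by
      rw [← pow_two]; exact VOf.MinH.sq hmn v hv
    have hδδ : (g * v * g⁻¹ * v) * (g * v * g⁻¹ * v) = 1 := by
      rw [← pow_two]; exact VOf.MinH.sq hmn _ (hDV hδ)
    have h6 := h1 _ hδ
    set δ := g * v * g⁻¹ * v with hδd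
    have e1 : g * v * g⁻¹ = δ * v := by rw [hδd, mul_assoc (g * v * g⁻¹), hvv, mul_one]
    have e2 : g * g * v * (g * g)⁻¹ = v := by
      calc g * g * v * (g * g)⁻¹ = g * (g * v * g⁻¹) * g⁻¹ := by group
        _ = (g * δ) * v * g⁻¹ := by rw [e1]; group
        _ = δ * (g * v * g⁻¹) := by rw [h6]; group
        _ = v := by rw [e1, ← mul_assoc, hδδ, one_mul]
    calc g * g * v = (g * g * v * (g * g)⁻¹) * (g * g) := by group
      _ = v * (g * g) := by rw [e2]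
  obtain ⟨n, hn, hN⟩ := SymCyc.exists_pow g 1
  have hgR : g ∈ R := ⟨hg, h1, h2⟩
  have h6 := h4 (g ^ n) (pow_mem hgR n) hN
  have hn' : n = 2 * (n / 2) + 1 := by
    have : n % 2 = 1 := by simpa using hn
    omega
  intro v hv
  have c1 : Commute (g ^ n) v := h6 v hv
  have c2 : Commute ((g * g) ^ (n / 2)) v := (show Commute (g * g) v from h5 v hv).pow_left _
  have e1 : g = ((g * g) ^ (n / 2))⁻¹ * g ^ n := by
    rw [← pow_two, ← pow_mul]
    conv_rhs => rw [hn', pow_succ]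
    rw [show 2 * (n / 2) + 1 = 2 * (n / 2) + 1 from rfl]
    have : 2 * ((2 * (n / 2) + 1) / 2) = 2 * (n / 2) := by omega
    rw [this, inv_mul_cancel_left]
  have c3 : Commute (((g * g) ^ (n / 2))⁻¹ * g ^ n) v := (c2.inv_left).mul_left c1
  rw [← e1] at c3
  exact c3.eq

/-- **The module data.** -/
theorem syT (hmn : MinH H T) [Finite G] (hJ : ¬ jj T ≤ o2 H) (hno : NoOver (zl T H) H)
    (N : SymK T H (zl T H) D k m) (hk : 0 < k)
    (hm : 1 ≤ m) (hDV : D ≤ zl T H) (hDn : ∀ h ∈ H, ∀ v ∈ D, h * v * h⁻¹ ∈ D) :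
    SyT T H (o2 H) (zl T H) D (0 : Fin (2 ^ m + 1)) N.e where
  n3 := by
    have : 2 ≤ 2 ^ m := by
      calc 2 = 2 ^ 1 := (pow_one 2).symm
        _ ≤ 2 ^ m := Nat.pow_le_pow_right (by norm_num) hm
    omega
  n4 := by
    intro h4
    have h5 : 2 ∣ 2 ^ m := dvd_pow_self 2 (by omega)
    omega
  DV := hDV
  Vn := zl_norm
  Dn := hDn
  comm := VOf.MinH.comm hmn
  sq := VOf.MinH.sq hmn
  mul := N.mul
  even := N.even
  surj := N.surj
  ker := N.ker
  lift := N.lift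
  perm := N.perm
  cent := fun g hg h1 h2 => cent hmn N hk hm hDV hDn hg h1 h2
  TH := hmn.syl.1
  Tp := hmn.syl.2.1
  QT := o2_le_syl hmn.syl
  VQ := VOf.MinH.zl_le_o2 hmn
  Qn := fun g hg x hx => conj_mem_of_norm (le_normalizer_o2 H hg) hx
  VcQ := VOf.MinH.o2_cent hmn
  cT := fun x hx hc => cT hmn (cent_sup_ne hmn N hk hm hDV) hx hc
  syl := fun x hx h2 => syl_elt hmn.syl hx h2
  trans := N.trans
  fix0 := N.fix0
  gen := fun K hT hK => N.gen K hT fun g hg τ ha hd => hK g τ ⟨hg, hd, ha⟩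
  offD := by
    intro A hA a ha
    by_cases hne : A ≤ centralizer (zl T H : Set G)
    · refine ⟨1, ⟨hmn.syl.1 (hA.2.1 ha), fun d hd => (mem_centralizer_iff.1 (hne ha) d (hDV hd)).symm,
        fun v hv i x => ?_⟩, fun i x hx => absurd rfl hx⟩
      have h1 := mem_centralizer_iff.1 (hne ha) v hv
      have h2 : a * v * a⁻¹ = v := by rw [← h1]; group
      rw [h2, Equiv.Perm.one_apply, Pi.one_apply, Equiv.Perm.one_apply]
    · obtain ⟨h1, h2⟩ := N.off A hA.2.1 (FFOf.off_of_AA hmn hA hne)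
      obtain ⟨τ, hτ, hτ'⟩ := h2 a ha
      refine ⟨τ, ⟨hmn.syl.1 (hA.2.1 ha), h1 a ha, hτ⟩, fun i x hx => ?_⟩
      obtain ⟨h3, b, hb, hb'⟩ := hτ' i x hx
      exact ⟨h3, b, hb, hmn.syl.1 (hA.2.1 hb), h1 b hb, hb'⟩
  nJ := by
    obtain ⟨A, hA, hoff⟩ := exists_off hmn (cent_sup_ne hmn N hk hm hDV) hJ
    have h1 := hoff.ne
    by_contra hcon
    push Not at hcon
    exact h1 fun a ha => mem_centralizer_iff.2 fun v hv => (hcon A hA a ha v hv).symm
  noOver := fun A hA => hno A (hA.2.1.trans hmn.syl.1) hA.1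
  cycle := by
    obtain ⟨p, h1, -, h3, h4⟩ := SymCyc.exists_cyc m hm
    exact ⟨p, m, h1, h3, h4⟩
  prop := by
    intro X hTX hXH hle
    by_contra hcon
    obtain ⟨M₀, hM, hu⟩ := hmn.uniq
    have h1 : X ≤ M₀ := hu X hTX hXH fun h => hcon h.ge
    have h2 : (H ⊓ centralizer (zl T H : Set G)) ⊔ T ≤ M₀ :=
      hu _ le_sup_right (sup_le inf_le_left hmn.syl.1) (cent_sup_ne hmn N hk hm hDV)
    exact hM (hle.trans (sup_le h1 (le_sup_left.trans h2)))

/-- **L1 for `q = 2`**: `FFThm.SymK` (with `m ≥ 1`) and no over-offenders give the Baumann input. -/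
theorem main (hmn : MinH H T) [Finite G] (hJ : ¬ jj T ≤ o2 H) (hno : NoOver (zl T H) H) (hk : 0 < k)
    (hm : 1 ≤ m) (N : SymK T H (zl T H) (cv T H) k m) :
    ∃ (ι : Type) (N' : ι → Subgroup G) (d t r : ι → G), Nonempty ι ∧
      BauS.In H T (o2 H) (zl T H) N' d t r ∧ BauS.PermR T (zl T H) d r := by
  have h := syT hmn hJ hno N hk hm FFOf.cv_le FFOf.cv_norm
  obtain ⟨ι, J, X, Y, t, r, hc⟩ := h.exists_ch
  obtain ⟨j, x, y, hT⟩ := h.exists_tr
  obtain ⟨i, -⟩ := hc.ex j x y hT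
  exact ⟨ι, _, _, t, r, ⟨i⟩, hc.main h SymCyc.exists_pow, hc.permR h⟩

end Cfsg.Agent.Omega.NO3b.FPB.SymIn

end

section


/-!
# THEOREM FPB (OMEGA #16134, helper526): the Baumann input of an arbitrary minimal parabolic from `FFThm.Stmt`

`T` is a Sylow 2-subgroup of `H`, `H` a minimal parabolic over `T`, `C_H(O₂(H)) ≤ O₂(H)`, `V = zl T H`,
`J(T) ≰ O₂(H)`.

* `exists_off`: if `C_H(V) T ≠ H` then some `A ∈ A(T)` is an offender on `V`;
* `of_stmt` : the FF theorem gives `InK` or `BauS.In`, if `C_H(V) T ≠ H`;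
* `oddGen_le_cent`, `zc_cent` : if `C_H(V) T = H` then `O²(H)` centralises `V ≥ Ω₁(Z(T))`.
-/

set_option autoImplicit false

namespace Cfsg.Agent.Omega.NO3b.FPB.OfStmt

open Subgroup Cfsg Cfsg.Agent.PLocal.ThompsonJ Cfsg.Agent.ZN Cfsg.Agent.ZN.ChoiceBase
open Cfsg.Agent.ZN.ChoiceSit
open Cfsg.Agent.Omega.SQ1 Cfsg.Agent.Omega.SQ1.FFOne Cfsg.Agent.Omega.SQ1.VOf
open Cfsg.Agent.Omega.FFThm (SymK NatK NoOver Off)
open Cfsg.Agent.Omega.FrameFF (cv)
open Cfsg.Agent.MinSimple.MinParabolic (IsMinPar)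
open Cfsg.Agent.MinSimple.VModule (oddGen)

universe v

variable {G : Type v} [Group G] {T H : Subgroup G}

/-- `C_T(V) ≤ O₂(H)` -/
theorem cT (hm : MinH H T) [Finite G] (hne : (H ⊓ centralizer (zl T H : Set G)) ⊔ T ≠ H) {t : G}
    (ht : t ∈ T) (hc : ∀ v ∈ zl T H, t * v = v * t) : t ∈ o2 H :=
  hm.inf_le inf_le_left cent_norm hne
    ⟨ht, hm.syl.1 ht, mem_centralizer_iff.2 fun v hv => (hc v hv).symm⟩

/-- Some `A ∈ A(T)` is an offender on `V`. -/
theorem exists_off (hm : MinH H T) [Finite G] (hne : (H ⊓ centralizer (zl T H : Set G)) ⊔ T ≠ H)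
    (hJ : ¬ jj T ≤ o2 H) : ∃ A ∈ AA T, Off (zl T H) A := by
  by_contra hcon
  push Not at hcon
  apply hJ
  intro j hj
  refine cT hm hne (jj_le T hj) ?_
  have hle : jj T ≤ centralizer (zl T H : Set G) := by
    rw [jj_eq]
    refine sSup_le fun A hA => ?_
    by_contra hAc
    exact hcon A hA (FFOf.off_of_AA hm hA hAc)
  exact fun v hv => (mem_centralizer_iff.1 (hle hj) v hv).symm

/-- If `C_H(V) T = H` then `O²(H)` centralises `V`. -/
theorem oddGen_le_cent (hT : Syl T H) [Finite G]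
    (he : (H ⊓ centralizer (zl T H : Set G)) ⊔ T = H) :
    oddGen H ≤ centralizer (zl T H : Set G) := by
  refine (Cfsg.Agent.MinSimple.VModule.oddGen_le_of_sup (K := H ⊓ centralizer (zl T H : Set G))
    (S := T) ?_ he.ge hT.1 inf_le_left hT.2.1).trans inf_le_right
  exact fun g hg => mem_norm_of fun k hk => cent_norm g hg k hk

theorem zc_cent (hT : Syl T H) [Finite G] (he : (H ⊓ centralizer (zl T H : Set G)) ⊔ T = H) :
    oddGen H ≤ centralizer (zc T : Set G) :=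
  (oddGen_le_cent hT he).trans (centralizer_le fun z hz => zc_le_zl hz)

/-- **The Baumann input of an arbitrary minimal parabolic** `H` of characteristic 2 over `T` with
`J(T) ≰ O₂(H)` and `O²(H)` not centralising `Ω₁(Z(T))` (in the form `C_H(V) T ≠ H`, see `zc_cent`). -/
theorem of_stmt (hFF : FFThm.Stmt.{v}) [Finite G] (hT : Syl T H) (hP : IsMinPar T H)
    (hc : H ⊓ centralizer (o2 H : Set G) ≤ o2 H) (hJ : ¬ jj T ≤ o2 H)
    (hne : (H ⊓ centralizer (zl T H : Set G)) ⊔ T ≠ H) :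
    (∃ (ι : Type) (N A : ι → Subgroup G) (q : ℕ), Nonempty ι ∧
      BauK.InK H T (o2 H) (zl T H) (cv T H) N A q) ∨
    ∃ (ι : Type) (N : ι → Subgroup G) (d t r : ι → G), Nonempty ι ∧
      BauS.In H T (o2 H) (zl T H) N d t r ∧ BauS.PermR T (zl T H) d r := by
  have h0 := minH_of hT hP hc
  obtain ⟨A, hA, hoff⟩ := exists_off h0 hne hJ
  obtain ⟨hno, hcon⟩ := hFF G T H hT hP hc ⟨A, hA.2.1.trans hT.1, hoff⟩
  rcases hcon with ⟨F, i1, i2, i3, k, hk, ⟨M⟩⟩ | ⟨k, m, hk, hm, ⟨N⟩⟩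
  · left
    obtain ⟨N, E, h⟩ := exists_inK hT hP hc hJ hk M
    exact ⟨Fin k, N, E, Nat.card F, ⟨⟨0, hk⟩⟩, h⟩
  · right
    exact SymIn.main h0 hJ hno hk (by omega) N

end Cfsg.Agent.Omega.NO3b.FPB.OfStmt

end
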