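import Cfsg.Agent.Mrg.Omega.NO3b.FPB.Main
import Cfsg.Agent.Mrg.Omega.SQ1.BauL
import Cfsg.Agent.Mrg.Omega.LemmaK.OfInK
import Cfsg.Agent.Mrg.Omega.NO3b.FPB.SymIn
import Cfsg.Agent.Mrg.Omega.LemmaK.Main
import Cfsg.Agent.MinSimple.EmptyTI
import Mathlib

section


/-!
# COR. (CEN) of #16134 (OMEGA, helper526): minimal parabolics in `C_G(Ω₁ Z(S))` over the Baumann subgroup

`G` of characteristic 2 type, `S` a Sylow 2-subgroup, `Z = Ω₁(Z(S))`, `B = bau S`.

* `no_blk`: no Baumann block over `B` centralises `Z`;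
* `cen`: `B ≤ T`, `X ≤ C_G(Z)` a minimal parabolic over `T ∈ Syl₂(X)` of characteristic 2 with
  `J(S) ≰ O₂(X)`: then `O²(X)` centralises `⟨Ω₁(Z(T))^X⟩`.
-/

set_option autoImplicit false

namespace Cfsg.Agent.Omega.NO3b.FPB.Cen

open Subgroup Cfsg Cfsg.Agent.PLocal.ThompsonJ Cfsg.Agent.ZN Cfsg.Agent.ZN.ChoiceBase
open Cfsg.Agent.ZN.ChoiceSit
open Cfsg.Agent.Omega.NO3b.FPB.Base
open Cfsg.Agent.Omega.SQ1 (BauK.InK BauK.BlkK)
open Cfsg.Agent.Omega.SQ1.FFOne (MinH minH_of exists_inK)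
open Cfsg.Agent.Omega.SQ1.VOf (zl_norm cent_norm)
open Cfsg.Agent.Omega.FrameFF (cv)
open Cfsg.Agent.MinSimple.EmptyTI (syl_of_le)
open Cfsg.Agent.MinSimple.MinParabolic (IsMinPar)
open Cfsg.Agent.MinSimple.VModule (oddGen oddGen_le oddGen_le_of_sup)

universe u

variable {G : Type u} [Group G]

/-- **No block over `bau S` centralises `Ω₁ Z(S)`.** -/
theorem no_blk [Finite G] (hG : IsCharacteristicTwoType G) (S : Sylow 2 G) {L V : Subgroup G}
    (hS : (S : Subgroup G) ≠ ⊥) (hb : LemmaK.Main.Blk (bau (S : Subgroup G)) L V)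
    (hV : IsElementaryAbelian 2 V)
    (hk : ∀ Y : Subgroup G, V ≤ Y → L ≤ normalizer (Y : Set G) → Bk (S : Subgroup G) Y L V) :
    ¬ L ≤ centralizer (zc (S : Subgroup G) : Set G) := by
  intro hL
  set Z := zc (S : Subgroup G) with hZ
  have hZ1 : Z ≠ ⊥ := MinSimple.Basic.zc_ne_bot S.isPGroup' hS
  have hZS : Z ≤ (S : Subgroup G) := fun z hz => (ChoiceBase.mem_zc.1 hz).1
  have hZ2 : IsPGroup 2 Z := S.isPGroup'.to_le hZS
  set H := normalizer (Z : Set G) with hH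
  have hc := MinSimple.Basic.char2_normalizer hG hZ2 hZ1
  have hLH : L ≤ H := hL.trans (centralizer_le_normalizer _)
  have hSH : (S : Subgroup G) ≤ H := by
    intro s hs
    rw [hH, mem_normalizer_iff_cj]
    have h1 : s ∈ normalizer ((S : Subgroup G) : Set G) := Subgroup.le_normalizer hs
    exact mem_normalizer_iff_cj.1 (normalizer_le_normalizer_zc _ h1)
  have hV2 := hb.le_o2 S hc hLH
  have hoS : o2 H ≤ (S : Subgroup G) := o2_le_syl (syl_of_le hSH)
  have hVY : V ≤ zc (o2 H) := by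
    intro v hv
    refine ChoiceBase.mem_zc.2 ⟨(hV2 hv).1, ?_, fun x hx => mem_centralizer_iff.1 (hV2 hv).2 x hx⟩
    exact SQ1.Bau.elem_sq hV v hv
  have hYe : IsElementaryAbelian 2 (zc (o2 H)) := ZN.isElementaryAbelian_zc _
  have hHY : H ≤ normalizer ((zc (o2 H) : Subgroup G) : Set G) :=
    (ZN.le_normalizer_o2 H).trans (normalizer_le_normalizer_zc _)
  have hYS : zc (o2 H) ≤ (S : Subgroup G) := fun z hz => hoS (ChoiceBase.mem_zc.1 hz).1
  exact Main.not_le_centralizer S.isPGroup' hYe hYS (hSH.trans hHY)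
    (hk _ hVY (hLH.trans hHY)) hL

/-- A Baumann block over `bau T` in `X`. -/
def HasBlk (T X : Subgroup G) : Prop :=
  ∃ L V : Subgroup G, L ≤ X ∧ LemmaK.Main.Blk (bau T) L V ∧ IsElementaryAbelian 2 V ∧
    ∀ Y : Subgroup G, V ≤ Y → L ≤ normalizer (Y : Set G) → Bk T Y L V

theorem hasBlk_nat [Finite G] {H T Q V V0 : Subgroup G} {ι : Type} {N A : ι → Subgroup G} {q : ℕ}
    (h : BauK.InK H T Q V V0 N A q) (i : ι) : HasBlk T H := by
  obtain ⟨L, k⟩ := h.exists_blk i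
  refine ⟨L, OfInK.N0 N i L, k.LH h, OfInK.blk k h, ?_, fun Y hVY hLY => OfInK.bk k h hVY hLY⟩
  exact isElementaryAbelian_mono
    (isElementaryAbelian_iff.2 ⟨fun v hv w hw => h.VcQ v (h.VQ hv) w hw, h.Vsq⟩)
    ((OfInK.N0_le k h).trans (h.NV i))

theorem hasBlk_sym [Finite G] {H T Q V : Subgroup G} {ι : Type} {N : ι → Subgroup G} {d t r : ι → G}
    (h : SQ1.BauS.In H T Q V N d t r) (i : ι) : HasBlk T H := by
  obtain ⟨L, k⟩ := h.exists_blk i
  refine ⟨L, N i, k.LP.trans (h.PP_le i), OfS.blk k h, ?_, fun Y hVY hLY => OfS.bk k h hVY hLY⟩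
  exact isElementaryAbelian_mono h.Velem (h.NV i)

/-- The FF theorem gives a block. -/
theorem hasBlk_of [Finite G] (hFF : FFThm.Stmt.{u}) {T X : Subgroup G} (hT : Syl T X)
    (hP : IsMinPar T X) (hc : X ⊓ centralizer (o2 X : Set G) ≤ o2 X) (hJ : ¬ jj T ≤ o2 X)
    (hne : (X ⊓ centralizer (zl T X : Set G)) ⊔ T ≠ X) : HasBlk T X := by
  have hm := minH_of hT hP hc
  obtain ⟨A, hA, hoff⟩ := SymIn.exists_off hm hne hJ
  obtain ⟨hno, ⟨F, _, _, _, k, hk, ⟨N⟩⟩ | ⟨k, m, hk, hm2, ⟨N⟩⟩⟩ :=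
    hFF G T X hT hP hc ⟨A, hA.2.1.trans hT.1, hoff⟩
  · obtain ⟨N', E, h⟩ := exists_inK hT hP hc hJ hk N
    exact hasBlk_nat h ⟨0, hk⟩
  · obtain ⟨ι, N', d, t, r, ⟨i⟩, h, -⟩ := SymIn.main hm hJ hno hk (by omega) N
    exact hasBlk_sym h i

/-- `C_X(V) T ≠ X` unless `O²(X)` centralises `V = ⟨Ω₁(Z(T))^X⟩`. -/
theorem cent_sup_ne [Finite G] {T X : Subgroup G} (hT : Syl T X)
    (hne : ¬ oddGen X ≤ centralizer (zl T X : Set G)) :
    (X ⊓ centralizer (zl T X : Set G)) ⊔ T ≠ X := by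
  intro h0
  apply hne
  refine (oddGen_le_of_sup (K := X ⊓ centralizer (zl T X : Set G)) (S := T) ?_ h0.ge hT.1
    inf_le_left hT.2.1).trans inf_le_right
  exact fun x hx => SQ1.FFOne.mem_norm_of fun k hk => cent_norm x hx k hk

/-- **(CEN)** -/
theorem cen [Finite G] (hFF : FFThm.Stmt.{u}) (hG : IsCharacteristicTwoType G) (S : Sylow 2 G)
    {T X : Subgroup G} (hBT : bau (S : Subgroup G) ≤ T) (hT : Syl T X) (hP : IsMinPar T X)
    (hc : X ⊓ centralizer (o2 X : Set G) ≤ o2 X)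
    (hXZ : X ≤ centralizer (zc (S : Subgroup G) : Set G)) (hJ : ¬ jj (S : Subgroup G) ≤ o2 X) :
    oddGen X ≤ centralizer (zl T X : Set G) := by
  by_contra hne
  have hJT : ¬ jj T ≤ o2 X := by rwa [LemmaK.Main.jj_eq S hT.2.1 hBT]
  have hb := LemmaK.Main.bau_eq S hT.2.1 hBT
  obtain ⟨L, V, hLX, hbl, hV, hk⟩ := hasBlk_of hFF hT hP hc hJT (cent_sup_ne hT hne)
  rw [hb] at hbl
  refine no_blk hG S (fun h0 => hJ ?_) hbl hV (fun Y hVY hLY => Move.Bk.of_bau (hk Y hVY hLY) hb)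
    (hLX.trans hXZ)
  exact ((ZN.jj_le _).trans h0.le).trans bot_le

/-- (CEN) for `Ω₁(Z(T))`. -/
theorem cen_zc [Finite G] (hFF : FFThm.Stmt.{u}) (hG : IsCharacteristicTwoType G) (S : Sylow 2 G)
    {T X : Subgroup G} (hBT : bau (S : Subgroup G) ≤ T) (hT : Syl T X) (hP : IsMinPar T X)
    (hc : X ⊓ centralizer (o2 X : Set G) ≤ o2 X)
    (hXZ : X ≤ centralizer (zc (S : Subgroup G) : Set G)) (hJ : ¬ jj (S : Subgroup G) ≤ o2 X) :
    zc T ≤ centralizer (oddGen X : Set G) :=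
  SQ1.VOf.zc_le_zl.trans (le_centralizer_iff.1 (cen hFF hG S hBT hT hP hc hXZ hJ))

end Cfsg.Agent.Omega.NO3b.FPB.Cen

end

section


/-!
# THEOREM BL* (OMEGA #18620, helper107), part 1: two Baumann blocks over the same `B` in a common 2-local

`PB S L V` : `(L, V)` is a Baumann block over `B = bau S`.

`G` of characteristic 2 type, `(L, V)`, `(L', V')` blocks over `B` centralising `1 ≠ d ∈ Z_J`:

* `claim'` : `C_B(V) ≠ C_B(V')` implies `[V', B] ≤ C(L)` (helper526's CLAIM);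
* `same'` : `C_B(V) = C_B(V')` implies `V' ≤ V Z_J`.
-/

set_option autoImplicit false

namespace Cfsg.Agent.Omega.NSix.NoBlk.Pair

open Subgroup Cfsg Cfsg.Agent.PLocal.ThompsonJ Cfsg.Agent.ZN Cfsg.Agent.ZN.ChoiceBase
open Cfsg.Agent.ZN.ChoiceSit
open Cfsg.Agent.Omega.SQ1.Bau (elem_comm elem_sq mem_sup_comm Mv mv_inv)
open Cfsg.Agent.Omega.SQ1.BauK.InK (QL mem_QL not_QL)
open Cfsg.Agent.Omega.NO3b.FPB.Base Cfsg.Agent.Omega.NO3b.FPB.Claim

universe u

variable {G : Type u} [Group G] {S T L V L' V' Y Y' : Subgroup G}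

theorem chg (k : Bk S Y L V) (h1 : V ≤ Y') (h2 : L ≤ normalizer (Y' : Set G)) : Bk S Y' L V :=
  { k with LY := h2, VY := h1 }

/-- A Baumann block over `B = bau S`. -/
structure PB (S L V : Subgroup G) : Prop where
  blk : LemmaK.Main.Blk (bau S) L V
  elem : IsElementaryAbelian 2 V
  top : Bk S ⊤ L V

namespace PB

theorem le_norm_top (L : Subgroup G) : L ≤ normalizer ((⊤ : Subgroup G) : Set G) := by
  rw [normalizer_eq_top]
  exact le_top

theorem bk (k : PB S L V) (h1 : V ≤ Y) (h2 : L ≤ normalizer (Y : Set G)) : Bk S Y L V :=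
  chg k.top h1 h2

theorem cjt [Finite G] (k : PB S L V) (g : G) : PB (cj g S) (cj g L) (cj g V) where
  blk := by rw [bau_cj]; exact k.blk.map g
  elem := isElementaryAbelian_cj g k.elem
  top := NO3b.FPB.Claim.Bk.conj k.top (cj_eq_of_mem_normalizer (le_norm_top ⊤ trivial))

theorem of_bau [Finite G] (k : PB T L V) (h : bau T = bau S) : PB S L V where
  blk := h ▸ k.blk
  elem := k.elem
  top := NO3b.FPB.Move.Bk.of_bau k.top h

/-- Conjugation by an element normalising `B`. -/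
theorem cjn [Finite G] (k : PB S L V) {g : G} (hg : g ∈ normalizer (bau S : Set G)) :
    PB S (cj g L) (cj g V) :=
  (k.cjt g).of_bau (by rw [bau_cj, cj_eq_of_mem_normalizer hg])

theorem Vz (k : PB S L V) {v z : G} (hv : v ∈ V) (hz : z ∈ zj S) : v * z = z * v := by
  obtain ⟨a, ha, c, -, hl, rfl⟩ := k.top.split z hz
  have h1 := elem_comm k.elem v hv a (mem_ln.1 ha).1
  have h2 := hl v (k.blk.VL hv)
  calc v * (a * c) = (v * a) * c := by group
    _ = a * (v * c) := by rw [h1]; group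
    _ = a * c * v := by rw [h2]; group

theorem QL_cjn [Finite G] {g : G} (hg : g ∈ normalizer (bau S : Set G)) :
    QL S (cj g V) = cj g (QL S V) := by
  unfold QL
  rw [cj_inf, cj_centralizer, cj_eq_of_mem_normalizer hg]

end PB

section

variable [Finite G]

theorem common (hG : IsCharacteristicTwoType G) (S : Sylow 2 G) (k : PB (S : Subgroup G) L V)
    (k' : PB (S : Subgroup G) L' V') {d : G} (hd1 : d ≠ 1) (hd : d ∈ zj (S : Subgroup G))
    (hL : ∀ l ∈ L, l * d = d * l) (hL' : ∀ l ∈ L', l * d = d * l) :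
    ∃ T Y : Subgroup G, IsPGroup 2 T ∧ bau (S : Subgroup G) ≤ T ∧
      bau T = bau (S : Subgroup G) ∧ IsElementaryAbelian 2 Y ∧ Y ≤ T ∧ V ≤ Y ∧ V' ≤ Y ∧
      L ≤ normalizer (Y : Set G) ∧ L' ≤ normalizer (Y : Set G) := by
  have hd2 : d ^ 2 = 1 := (ChoiceBase.mem_zj.1 hd).2.1
  have hU : IsPGroup 2 (zpowers d) := by
    refine IsPGroup.of_card (n := orderOf d |>.factorization 2) ?_
    rw [Nat.card_zpowers]
    have h1 : orderOf d ∣ 2 := orderOf_dvd_of_pow_eq_one hd2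
    rcases (Nat.dvd_prime Nat.prime_two).1 h1 with h2 | h2
    · exact absurd (orderOf_eq_one_iff.1 h2) hd1
    · rw [h2, Nat.prime_two.factorization_self, pow_one]
  have hU1 : zpowers d ≠ ⊥ := by rwa [Ne, zpowers_eq_bot]
  set H := normalizer ((zpowers d : Subgroup G) : Set G) with hH
  have hc := MinSimple.Basic.char2_normalizer hG hU hU1
  have key : ∀ M : Subgroup G, (∀ l ∈ M, l * d = d * l) → M ≤ H := by
    intro M hM
    refine le_trans (fun l hl => ?_) (centralizer_le_normalizer _)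
    rw [mem_centralizer_iff]
    rintro _ ⟨n, rfl⟩
    exact ((show Commute l d from hM l hl).zpow_right n).eq.symm
  have hLH := key L hL
  have hLH' := key L' hL'
  have hBH : bau (S : Subgroup G) ≤ H := k.blk.le.trans hLH
  have hB2 : IsPGroup 2 (bau (S : Subgroup G)) := S.isPGroup'.to_le (ChoiceBase.bau_le _)
  obtain ⟨T, hT, hBT⟩ := exists_syl hB2 hBH
  have hbT := LemmaK.Main.bau_eq S hT.2.1 hBT
  have hHY : H ≤ normalizer ((zc (o2 H) : Subgroup G) : Set G) :=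
    (ZN.le_normalizer_o2 H).trans (normalizer_le_normalizer_zc _)
  have hV : ∀ {L V : Subgroup G}, PB (S : Subgroup G) L V → L ≤ H → V ≤ zc (o2 H) := by
    intro L V k hLH v hv
    have h1 := k.blk.le_o2 S hc hLH hv
    exact ChoiceBase.mem_zc.2 ⟨h1.1, elem_sq k.elem v hv, fun x hx =>
      mem_centralizer_iff.1 h1.2 x hx⟩
  refine ⟨T, zc (o2 H), hT.2.1, hBT, hbT, ZN.isElementaryAbelian_zc _,
    fun z hz => o2_le_syl hT (ChoiceBase.mem_zc.1 hz).1, hV k hLH, hV k' hLH', hLH.trans hHY,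
    hLH'.trans hHY⟩

/-- helper526's CLAIM: `C_B(V) ≠ C_B(V') ⇒ [V', B] ≤ C(L)`. -/
theorem claim' (hG : IsCharacteristicTwoType G) (S : Sylow 2 G) (k : PB (S : Subgroup G) L V)
    (k' : PB (S : Subgroup G) L' V') {d : G} (hd1 : d ≠ 1) (hd : d ∈ zj (S : Subgroup G))
    (hL : ∀ l ∈ L, l * d = d * l) (hL' : ∀ l ∈ L', l * d = d * l)
    (hne : QL (S : Subgroup G) V ≠ QL (S : Subgroup G) V') :
    ∀ b ∈ bau (S : Subgroup G), ∀ v ∈ V', b * v * b⁻¹ * v⁻¹ ∈ centralizer (L : Set G) := by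
  obtain ⟨T, Y, -, -, hbT, hY, hYT, hVY, hVY', hLY, hLY'⟩ := common hG S k k' hd1 hd hL hL'
  have h1 := NO3b.FPB.Move.Bk.of_bau (k.bk hVY hLY) hbT.symm
  have h2 := NO3b.FPB.Move.Bk.of_bau (k'.bk hVY' hLY') hbT.symm
  have h3 := NO3b.FPB.CaseTwo.claim hY hYT h1 h2 (by
    unfold QL at hne ⊢
    rwa [hbT])
  rw [hbT] at h3
  exact h3

/-- `C_B(V) = C_B(V') ⇒ V' ≤ V Z_J`. -/
theorem same' (hG : IsCharacteristicTwoType G) (S : Sylow 2 G) (k : PB (S : Subgroup G) L V)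
    (k' : PB (S : Subgroup G) L' V') {d : G} (hd1 : d ≠ 1) (hd : d ∈ zj (S : Subgroup G))
    (hL : ∀ l ∈ L, l * d = d * l) (hL' : ∀ l ∈ L', l * d = d * l)
    (he : QL (S : Subgroup G) V = QL (S : Subgroup G) V') : V' ≤ V ⊔ zj (S : Subgroup G) := by
  obtain ⟨T, Y, -, hBT, hbT, hY, hYT, hVY, hVY', hLY, hLY'⟩ := common hG S k k' hd1 hd hL hL'
  have h1 := NO3b.FPB.Move.Bk.of_bau (k.bk hVY hLY) hbT.symm
  have hQ : QL T V = QL (S : Subgroup G) V := by unfold QL; rw [hbT]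
  obtain ⟨A, hA, hAP⟩ := h1.off
  obtain ⟨-, h2, h3, -⟩ := h1.order hY hYT h1.VY le_rfl ((BB.self Y A).star hA hYT hY) hAP
  intro v hv
  have hvP : ∀ p ∈ QL T V, p * v = v * p := by
    intro p hp
    rw [hQ, he] at hp
    exact (mem_QL.1 hp).2 v hv
  have h4 : v ∈ V ⊔ cW Y A := by
    rw [← h3]
    exact mem_cW.2 ⟨hVY' hv, fun e he => hvP e (mem_inf.1 he).2⟩
  obtain ⟨v1, hv1, c, hc, rfl⟩ := mem_sup_comm
    (fun a ha b hb => elem_comm hY a (h1.VY ha) b (cW_le Y A hb)) h4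
  refine mul_mem (mem_sup_left hv1) (mem_sup_right ?_)
  have hcY := cW_le Y A hc
  -- `c` centralises `B`
  have hcB : ∀ e ∈ bau T, e * c = c * e := by
    intro e he'
    obtain ⟨a, ha, p, hp, rfl⟩ := h2 e he'
    have hpc : p * c = c * p := by
      have h5 := hvP p hp
      have h6 : p * v1 = v1 * p := Bk.P_cent hp hv1
      have h7 : p * (v1 * c) = v1 * (p * c) := by rw [← mul_assoc, h6]; group
      rw [h7, mul_assoc v1 c p] at h5
      exact mul_left_cancel h5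
    have hac := (mem_cW.1 hc).2 a ha
    calc a * p * c = a * (p * c) := by group
      _ = (a * c) * p := by rw [hpc]; group
      _ = c * (a * p) := by rw [hac]; group
  rw [← NO3b.FPB.Move.zj_eq hbT, ← ChoiceBase.zc_bau T, ChoiceBase.mem_zc]
  refine ⟨mem_bau.2 ⟨hYT hcY, fun z hz => ?_⟩, elem_sq hY c hcY, fun x hx => hcB x hx⟩
  have h8 : z ∈ bau T := by
    rw [← ChoiceBase.zc_bau T] at hz
    exact (ChoiceBase.mem_zc.1 hz).1
  exact hcB z h8

end

end Cfsg.Agent.Omega.NSix.NoBlk.Pair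

end

section


/-!
# THEOREM BL* (OMEGA #18620, helper107), part 6: `N_T(C_B(N_i))` normalises `C_{Z_J}(L)`

`T ∈ Syl₂(H)`, `B = bau T`, `Y = Z_J V` normal in `H`, `D ≤ V` centralised by `B`, `[V, B] ≤ D`:

* `lemN` : `g ∈ H`, `D^g = D` imply `Z_J^g = Z_J` (`⟨B, B^g⟩` is a 2-group modulo `C(Y)`);
* `nrm_of` : the conclusion (N) from `(b x) D = (s x) D`;
* `nrmK`, `nrmS` : (N) for the blocks `BauK.BlkK`, `BauS.Blk`.
-/

set_option autoImplicit false

namespace Cfsg.Agent.Omega.NSix.NoBlk.Nrm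

open Subgroup Cfsg Cfsg.Agent.PLocal.ThompsonJ Cfsg.Agent.ZN Cfsg.Agent.ZN.ChoiceBase
open Cfsg.Agent.ZN.ChoiceSit
open Cfsg.Agent.Omega.SQ1.Bau (elem_comm elem_sq mem_sup_comm card_sup_comm Mv mv_inv)
open Cfsg.Agent.Omega.SQ1.BauK.InK (QL mem_QL not_QL St mem_St)
open Cfsg.Agent.Omega.SQ1 (BauK.InK BauK.BlkK)
open Cfsg.Agent.Omega.SQ1.BauK (V1 mem_V1)
open Cfsg.Agent.Omega.NO3b.FPB.Base Cfsg.Agent.Omega.NO3b.FPB.Claim

universe u w

variable {G : Type u} [Group G]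

/-- `D = K R` -/
theorem mem_mul_of [Finite G] {X K R : Subgroup G} (hKn : X ≤ normalizer (K : Set G)) (hKX : K ≤ X)
    (hq : ∀ x ∈ X, ∃ n : ℕ, x ^ 2 ^ n ∈ K) (hR : Syl R X) {x : G} (hx : x ∈ X) :
    ∃ r ∈ R, ∃ c ∈ K, x = r * c := by
  haveI : Fact (Nat.Prime 2) := ⟨Nat.prime_two⟩
  haveI hn : (K.subgroupOf X).Normal := by
    rw [normal_subgroupOf_iff_le_normalizer hKX]
    exact hKn
  have h2 : IsPGroup 2 (X ⧸ K.subgroupOf X) := by
    intro y
    obtain ⟨z, rfl⟩ := QuotientGroup.mk'_surjective (K.subgroupOf X) y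
    obtain ⟨n, hn⟩ := hq z z.2
    refine ⟨n, ?_⟩
    rw [← map_pow, QuotientGroup.mk'_apply, QuotientGroup.eq_one_iff, mem_subgroupOf]
    simpa using hn
  -- the Sylow subgroup of `X`
  have hR2 : IsPGroup 2 (R.subgroupOf X) := hR.2.1.comap_of_injective _ Subtype.val_injective
  obtain ⟨P, hP⟩ := hR2.exists_le_sylow
  have hPR : (P : Subgroup X) = R.subgroupOf X := by
    refine le_antisymm ?_ hP
    have h3 : (P : Subgroup X).map X.subtype = R := by
      refine hR.2.2 _ (Subgroup.map_subtype_le _) (P.isPGroup'.map _) ?_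
      intro r hr
      exact ⟨⟨r, hR.1 hr⟩, hP (mem_subgroupOf.2 hr), rfl⟩
    intro p hp
    rw [mem_subgroupOf, ← h3]
    exact ⟨p, hp, rfl⟩
  have h4 : (P : Subgroup X) ⊔ K.subgroupOf X = ⊤ := by
    rw [← Subgroup.index_eq_one]
    set I := ((P : Subgroup X) ⊔ K.subgroupOf X).index with hI
    have h5 : I ∣ (P : Subgroup X).index := Subgroup.index_dvd_of_le le_sup_left
    have h6 : I ∣ (K.subgroupOf X).index := Subgroup.index_dvd_of_le le_sup_right
    obtain ⟨n, hn⟩ := IsPGroup.iff_card.1 h2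
    have h7 : (K.subgroupOf X).index = 2 ^ n := hn
    rw [h7] at h6
    obtain ⟨j, -, hj⟩ := (Nat.dvd_prime_pow Nat.prime_two).1 h6
    rcases Nat.eq_zero_or_pos j with h8 | h8
    · rw [hj, h8, pow_zero]
    · exfalso
      refine P.not_dvd_index ((dvd_pow_self 2 h8.ne').trans ?_)
      rw [← hj]
      exact h5
  have h5 : (⟨x, hx⟩ : X) ∈ (P : Subgroup X) ⊔ K.subgroupOf X := by rw [h4]; trivial
  rw [Subgroup.mem_sup_of_normal_right] at h5
  obtain ⟨r, hr, c, hc, hrc⟩ := h5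
  rw [hPR] at hr
  exact ⟨r, mem_subgroupOf.1 hr, c, mem_subgroupOf.1 hc, by
    rw [← Subgroup.coe_mul, hrc]⟩

/-- Two 2-subgroups are contained in a 2-subgroup after conjugation by an element of the kernel. -/
theorem conj_kernel [Finite G] {X K B B' : Subgroup G} (hKn : X ≤ normalizer (K : Set G))
    (hKX : K ≤ X) (hq : ∀ x ∈ X, ∃ n : ℕ, x ^ 2 ^ n ∈ K) (hB : IsPGroup 2 B)
    (hB' : IsPGroup 2 B') (hBX : B ≤ X) (hBX' : B' ≤ X) :
    ∃ c ∈ K, ∃ R ≤ X, IsPGroup 2 R ∧ B ≤ R ∧ cj c B' ≤ R := by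
  obtain ⟨R, hR, hBR⟩ := exists_syl hB hBX
  obtain ⟨R', hR', hBR'⟩ := exists_syl hB' hBX'
  obtain ⟨d, hd, hdR⟩ := syl_conj hR' hR
  obtain ⟨r, hr, c, hc, rfl⟩ := mem_mul_of hKn hKX hq hR hd
  refine ⟨c, hc, R, hR.1, hR.2.1, hBR, (cj_mono c hBR').trans ?_⟩
  have h1 : cj c R' = cj r⁻¹ R := by
    rw [← hdR, cj_cj]
    congr 1
    group
  rw [h1, cj_eq_of_mem_normalizer (Subgroup.le_normalizer (inv_mem hr))]

/-- `D^g = D` implies `Z_J^g = Z_J`. -/
theorem lemN [Finite G] {H T V D : Subgroup G} (hT : Syl T H)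
    (hZV : ∀ z ∈ zj T, ∀ v ∈ V, z * v = v * z) (hVc : ∀ v ∈ V, ∀ w ∈ V, v * w = w * v)
    (hVsq : ∀ v ∈ V, v ^ 2 = 1) (hVn : ∀ g ∈ H, ∀ v ∈ V, g * v * g⁻¹ ∈ V)
    (hYn : ∀ g ∈ H, ∀ y ∈ zj T ⊔ V, g * y * g⁻¹ ∈ zj T ⊔ V) (hDV : D ≤ V)
    (hBD : ∀ b ∈ bau T, ∀ x ∈ D, b * x = x * b)
    (hVB : ∀ b ∈ bau T, ∀ v ∈ V, b * v * b⁻¹ * v⁻¹ ∈ D)
    {g : G} (hg : g ∈ H) (hgD : cj g D = D) : cj g (zj T) = zj T := by
  have hBH : bau T ≤ H := (ChoiceBase.bau_le T).trans hT.1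
  have hB2 : IsPGroup 2 (bau T) := hT.2.1.to_le (ChoiceBase.bau_le T)
  set Y := zj T ⊔ V with hY
  have hYc : ∀ y ∈ Y, ∀ v ∈ V, y * v = v * y := by
    intro y hy v hv
    obtain ⟨z, hz, w, hw, rfl⟩ := mem_sup_comm hZV hy
    calc z * w * v = z * (w * v) := by group
      _ = (z * v) * w := by rw [hVc w hw v hv]; group
      _ = v * (z * w) := by rw [hZV z hz v hv]; group
  -- the group of the elements acting quadratically
  let A : Subgroup G :=
    { carrier := {x | x ∈ H ∧ (∀ w ∈ D, x * w = w * x) ∧ (∀ v ∈ V, x * v * x⁻¹ * v⁻¹ ∈ D) ∧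
        ∀ y ∈ Y, x * y * x⁻¹ * y⁻¹ ∈ V}
      mul_mem' := by
        rintro a b ⟨ha1, ha2, ha3, ha4⟩ ⟨hb1, hb2, hb3, hb4⟩
        have e : ∀ y : G, a * b * y * (a * b)⁻¹ * y⁻¹ =
            (a * (b * y * b⁻¹ * y⁻¹) * a⁻¹) * (a * y * a⁻¹ * y⁻¹) := fun y => by group
        refine ⟨mul_mem ha1 hb1, fun w hw => ?_, fun v hv => ?_, fun y hy => ?_⟩
        · calc a * b * w = a * (b * w) := by group
            _ = (a * w) * b := by rw [hb2 w hw]; group
            _ = w * (a * b) := by rw [ha2 w hw]; group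
        · rw [e]
          refine mul_mem ?_ (ha3 v hv)
          rw [ha2 _ (hb3 v hv), mul_inv_cancel_right]
          exact hb3 v hv
        · rw [e]
          exact mul_mem (hVn a ha1 _ (hb4 y hy)) (ha4 y hy)
      one_mem' := ⟨one_mem _, fun w _ => by group, fun v _ => by
        have e : (1 : G) * v * 1⁻¹ * v⁻¹ = 1 := by group
        rw [e]; exact one_mem _, fun y _ => by
        have e : (1 : G) * y * 1⁻¹ * y⁻¹ = 1 := by group
        rw [e]; exact one_mem _⟩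
      inv_mem' := by
        rintro a ⟨ha1, ha2, ha3, ha4⟩
        have e : ∀ y : G, a⁻¹ * y * a⁻¹⁻¹ * y⁻¹ = a⁻¹ * (a * y * a⁻¹ * y⁻¹)⁻¹ * a := fun y => by
          group
        refine ⟨inv_mem ha1, fun w hw => ?_, fun v hv => ?_, fun y hy => ?_⟩
        · exact ((show Commute a w from ha2 w hw).inv_left).eq
        · rw [e]
          have h1 : a⁻¹ * (a * v * a⁻¹ * v⁻¹)⁻¹ = (a * v * a⁻¹ * v⁻¹)⁻¹ * a⁻¹ :=
            ((show Commute a _ from ha2 _ (inv_mem (ha3 v hv))).inv_left).eq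
          rw [h1, inv_mul_cancel_right]
          exact inv_mem (ha3 v hv)
        · rw [e]
          have h1 := hVn a⁻¹ (inv_mem ha1) _ (inv_mem (ha4 y hy))
          rwa [inv_inv] at h1 }
  have hBA : bau T ≤ A := by
    intro b hb
    refine ⟨hBH hb, hBD b hb, hVB b hb, fun y hy => ?_⟩
    obtain ⟨z, hz, w, hw, rfl⟩ := mem_sup_comm hZV hy
    have h1 : b * z = z * b := ((mem_bau.1 hb).2 z hz).symm
    have h2 : b * w * b⁻¹ ∈ V := hVn b (hBH hb) w hw
    have e : b * (z * w) * b⁻¹ * (z * w)⁻¹ = z * (b * w * b⁻¹ * w⁻¹) * z⁻¹ := by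
      calc b * (z * w) * b⁻¹ * (z * w)⁻¹ = (b * z) * w * b⁻¹ * w⁻¹ * z⁻¹ := by group
        _ = _ := by rw [h1]; group
    rw [e, hZV z hz _ (mul_mem h2 (inv_mem hw)), mul_inv_cancel_right]
    exact mul_mem h2 (inv_mem hw)
  have hgD' : ∀ w ∈ D, g⁻¹ * w * g ∈ D := by
    intro w hw
    rw [← hgD] at hw
    exact mem_cj.1 hw
  have hVn' : ∀ v ∈ V, g⁻¹ * v * g ∈ V := fun v hv => by
    have := hVn g⁻¹ (inv_mem hg) v hv
    rwa [inv_inv] at this
  have hYn' : ∀ y ∈ Y, g⁻¹ * y * g ∈ Y := fun y hy => by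
    have := hYn g⁻¹ (inv_mem hg) y hy
    rwa [inv_inv] at this
  have hBA' : cj g (bau T) ≤ A := by
    intro b' hb'
    obtain ⟨b, hb, rfl⟩ := mem_cj_iff.1 hb'
    obtain ⟨h1, h2, h3, h4⟩ := hBA hb
    have e : ∀ y : G, g * b * g⁻¹ * y * (g * b * g⁻¹)⁻¹ * y⁻¹ =
        g * (b * (g⁻¹ * y * g) * b⁻¹ * (g⁻¹ * y * g)⁻¹) * g⁻¹ := fun y => by group
    refine ⟨mul_mem (mul_mem hg h1) (inv_mem hg), fun w hw => ?_, fun v hv => ?_, fun y hy => ?_⟩
    · have h5 := comm_conj (g := g) (h2 _ (hgD' w hw))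
      have e1 : g * (g⁻¹ * w * g) * g⁻¹ = w := by group
      rwa [e1] at h5
    · rw [e, ← hgD]
      exact conj_mem_cj (h3 _ (hVn' v hv))
    · rw [e]
      exact hVn g hg _ (h4 _ (hYn' y hy))
  set X := bau T ⊔ cj g (bau T) with hX
  have hXA : X ≤ A := sup_le hBA hBA'
  set K := X ⊓ centralizer (Y : Set G) with hK
  have hXY : ∀ x ∈ X, ∀ y ∈ Y, x * y * x⁻¹ ∈ Y := fun x hx y hy => hYn x (hXA hx).1 y hy
  have hKn : X ≤ normalizer (K : Set G) := by
    intro x hx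
    refine mem_normalizer_of_cj_le ?_
    rintro _ ⟨c, hc, rfl⟩
    change x * c * x⁻¹ ∈ X ⊓ centralizer (Y : Set G)
    refine mem_inf.2 ⟨mul_mem (mul_mem hx hc.1) (inv_mem hx), mem_centralizer_iff.2 fun y hy => ?_⟩
    have h1 := hXY x⁻¹ (inv_mem hx) y hy
    have h2 := comm_conj (g := x) (mem_centralizer_iff.1 hc.2 _ h1)
    have e1 : x * (x⁻¹ * y * x⁻¹⁻¹) * x⁻¹ = y := by group
    rw [e1] at h2
    exact h2
  have hq : ∀ x ∈ X, ∃ n : ℕ, x ^ 2 ^ n ∈ K := by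
    intro x hx
    obtain ⟨h1, h2, h3, h4⟩ := hXA hx
    -- `x²` centralises `V`
    have h5 : ∀ v ∈ V, x * x * v = v * (x * x) := by
      intro v hv
      have h6 : x * v * x⁻¹ = v * (x * v * x⁻¹ * v⁻¹) := by
        rw [hVc v hv _ (hDV (h3 v hv))]
        group
      set c := x * v * x⁻¹ * v⁻¹ with hc
      have hcD : c ∈ D := h3 v hv
      have hcc : c * c = 1 := by rw [← pow_two]; exact hVsq c (hDV hcD)
      calc x * x * v = x * (x * v * x⁻¹) * x := by group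
        _ = x * (v * c) * x := by rw [h6]
        _ = (x * v * x⁻¹) * (x * c) * x := by group
        _ = (v * c) * (c * x) * x := by rw [h6, h2 c hcD]
        _ = v * (c * c) * (x * x) := by group
        _ = v * (x * x) := by rw [hcc, mul_one]
    refine ⟨2, pow_mem hx _, mem_centralizer_iff.2 fun y hy => ?_⟩
    have h6 : x * x * y * (x * x)⁻¹ * y⁻¹ ∈ V := by
      have e : x * x * y * (x * x)⁻¹ * y⁻¹ =
          (x * (x * y * x⁻¹ * y⁻¹) * x⁻¹) * (x * y * x⁻¹ * y⁻¹) := by group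
      rw [e]
      exact mul_mem (hVn x h1 _ (h4 y hy)) (h4 y hy)
    set a := x * x with ha
    set c := a * y * a⁻¹ * y⁻¹ with hc
    have h7 : a * y * a⁻¹ = c * y := by rw [hc]; group
    have hcc : c * c = 1 := by rw [← pow_two]; exact hVsq c h6
    have h8 : a * c * a⁻¹ = c := by rw [h5 c h6]; group
    have h9 : x ^ 2 ^ 2 = a * a := by
      rw [ha, show (2 : ℕ) ^ 2 = 2 + 2 by norm_num, pow_add, pow_two]
    rw [h9]
    have h10 : a * a * y * (a * a)⁻¹ = y := by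
      calc a * a * y * (a * a)⁻¹ = a * (a * y * a⁻¹) * a⁻¹ := by group
        _ = a * (c * y) * a⁻¹ := by rw [h7]
        _ = (a * c * a⁻¹) * (a * y * a⁻¹) := by group
        _ = c * (c * y) := by rw [h8, h7]
        _ = (c * c) * y := by group
        _ = y := by rw [hcc, one_mul]
    calc y * (a * a) = (a * a * y * (a * a)⁻¹) * (a * a) := by rw [h10]
      _ = a * a * y := by group
  obtain ⟨c, hc, R, hRX, hR2, hBR, hBR'⟩ := conj_kernel hKn inf_le_left hq hB2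
    (isPGroup_cj g hB2) le_sup_left le_sup_right
  -- `B` is weakly closed
  have hRH : R ≤ H := fun x hx => (hXA (hRX hx)).1
  have hcH : c ∈ H := (hXA hc.1).1
  obtain ⟨S', hS', hle⟩ := exists_syl hR2 hRH
  obtain ⟨x, -, hx⟩ := syl_conj hS' hT
  have hk : key R ≤ key T := by
    refine (key_mono hle).trans ?_
    rw [← hx, key_cj]
  have h1 : bau R = bau T := by
    obtain ⟨-, -, h3, -⟩ := of_key_le hBR hk
    exact h3
  have h2 : bau R = cj (c * g) (bau T) := by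
    rw [cj_cj, ← bau_cj] at hBR'
    have hk' : key R ≤ key (cj (c * g) T) := by rwa [key_cj]
    obtain ⟨-, -, h3, -⟩ := of_key_le hBR' hk'
    rw [h3, bau_cj]
  have h3 : cj (c * g) (zj T) = zj T := by
    rw [← ChoiceBase.zj_bau T, ← zj_cj, ← h2, h1]
  have h4 : cj c⁻¹ (zj T) = zj T := by
    apply cj_eq_of_mem_normalizer
    refine inv_mem (centralizer_le_normalizer _ (mem_centralizer_iff.2 fun z hz => ?_))
    exact mem_centralizer_iff.1 hc.2 z (mem_sup_left (T := V) hz)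
  calc cj g (zj T) = cj c⁻¹ (cj (c * g) (zj T)) := by
        rw [cj_cj]
        congr 1
        group
    _ = zj T := by rw [h3, h4]

/-- The conclusion (N) from a conjugate of `D`. -/
theorem nrm_of [Finite G] {H T D L V' Y' : Subgroup G} (bk : Bk T Y' L V')
    (hN : ∀ g ∈ H, cj g D = D → cj g (zj T) = zj T) (hLH : L ≤ H) (hTH : T ≤ H)
    {x b s : G} (hx : x ∈ L) (hm : Mv (ln T V') x) (hb : b ∈ bau T) (hs : s ∈ T)
    (hD : cj (b * x) D = cj (s * x) D) {z : G} (hz : z ∈ zj T) (hc : ∀ l ∈ L, l * z = z * l) :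
    ∀ l ∈ L, l * (s * z * s⁻¹) = (s * z * s⁻¹) * l := by
  have hsz : s * z * s⁻¹ ∈ zj T := SQ1.Bau.In.T_norm_Z T hs hz
  have h1 : cj ((b * x)⁻¹ * (s * x)) D = D := by
    rw [← cj_cj, ← hD, cj_inv_cj]
  have h2 := hN _ (mul_mem (inv_mem (mul_mem (hLH (bk.BL hb)) (hLH hx)))
    (mul_mem (hTH hs) (hLH hx))) h1
  have h3 : cj (s * x) (zj T) = cj (b * x) (zj T) := by
    have h4 := congrArg (cj (b * x)) h2
    rw [cj_cj] at h4
    rwa [show b * x * ((b * x)⁻¹ * (s * x)) = s * x by group] at h4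
  have h4 : s * z * s⁻¹ ∈ cj (b * x) (zj T) := by
    rw [← h3]
    have h5 : z = x * z * x⁻¹ := by rw [hc x hx]; group
    have h6 : s * z * s⁻¹ = (s * x) * z * (s * x)⁻¹ := by
      conv_lhs => rw [h5]
      group
    rw [h6]
    exact conj_mem_cj hz
  have hbm : Mv (ln T V') (b * x) := by
    obtain ⟨v, hv, hne⟩ := hm
    refine ⟨v, hv, fun h5 => hne ?_⟩
    have h6 := (mem_ln.1 h5)
    have e : x * v * x⁻¹ = b⁻¹ * (b * x * v * (b * x)⁻¹) * b := by group
    have h7 : b⁻¹ * (b * x * v * (b * x)⁻¹) * b = b * x * v * (b * x)⁻¹ := by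
      have h8 := (mem_bau.1 hb).2 _ h6.2
      rw [mul_assoc, h8]
      group
    rw [e, h7]
    exact h5
  have h5 := NO3b.FPB.Claim.Bk.inter bk (mul_mem (bk.BL hb) hx) hbm hsz (mem_cj.1 h4)
  exact fun l hl => mem_centralizer_iff.1 h5 l hl

/-! ### Natural modules -/

section K

open Cfsg.Agent.Omega.SQ1.BauK
open Cfsg.Agent.Omega.NSix.NoBlk.Pair

variable [Finite G] {H T Q V V0 L : Subgroup G} {ι : Type} {N A : ι → Subgroup G} {q : ℕ} {i : ι}

/-- `D = ⟨V1 ∩ N j⟩` -/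
def DK (T V : Subgroup G) (N : ι → Subgroup G) : Subgroup G := ⨆ j, (V1 T V ⊓ N j)

theorem le_DK (T V : Subgroup G) (N : ι → Subgroup G) (j : ι) : V1 T V ⊓ N j ≤ DK T V N :=
  le_iSup (fun j => V1 T V ⊓ N j) j

theorem DK_le : DK T V N ≤ V1 T V := iSup_le fun _ => inf_le_left

theorem cj_V1 (h : InK H T Q V V0 N A q) {s : G} (hs : s ∈ T) : cj s (V1 T V) = V1 T V := by
  have h1 : cj s V = V :=
    cj_eq_of_mem_normalizer (InK.norm_of_conj fun v hv => h.Vn s (h.TH hs) v hv)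
  have h2 : cj s (jj T) = jj T := by
    rw [← jj_cj, cj_eq_of_mem_normalizer (Subgroup.le_normalizer hs)]
  unfold V1
  rw [cj_inf, h1, cj_centralizer, h2]

theorem T_bau {s : G} (hs : s ∈ T) : s ∈ normalizer (bau T : Set G) :=
  normalizer_le_bau T (Subgroup.le_normalizer hs)

/-- An element of `T` normalising `C_B(N i)` normalises `N i`. -/
theorem s_norm (h : InK H T Q V V0 N A q) {s : G} (hs : s ∈ T)
    (hn : s ∈ normalizer (QL T (N i) : Set G)) : cj s (N i) = N i := by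
  obtain ⟨j, hj⟩ := h.Nperm s (h.TH hs) i
  by_cases hij : i = j
  · rw [hj, ← hij]
  exfalso
  obtain ⟨a, ha, -, v, hv, hne⟩ := h.A_exists i
  have h1 : QL T (N j) = QL T (N i) := by
    rw [← hj, PB.QL_cjn (T_bau hs), mem_normalizer_iff_cj.1 hn]
  have h2 : a ∈ QL T (N j) := mem_QL.2 ⟨ChoiceBase.jj_le_bau T (le_jj (h.AT i) ha),
    fun w hw => h.Acent i j hij a ha w hw⟩
  rw [h1] at h2
  exact hne ((mem_QL.1 h2).2 v hv)

/-- The lines outside `ℓ_i` are conjugate under `A i`. -/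
theorem line_eq (k : BlkK H T V N i L) (h : InK H T Q V V0 N A q) {x x' : G}
    (hx : x ∈ St H (N i)) (hx' : x' ∈ St H (N i)) (hm : Mv (V1 T V ⊓ N i) x)
    (hm' : Mv (V1 T V ⊓ N i) x') :
    ∃ a ∈ A i, cj (a * x) (V1 T V ⊓ N i) = cj x' (V1 T V ⊓ N i) := by
  -- a vector of the line
  obtain ⟨v0, hv0, hv00⟩ : ∃ v0 ∈ V1 T V ⊓ N i, v0 ∉ V0 := by
    by_contra hcon
    push Not at hcon
    have h1 : Nat.card ↥(V1 T V ⊓ N i) ≤ Nat.card V0 := Subgroup.card_le_of_le hcon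
    rw [h.card0 i] at h1
    have hp : 0 < Nat.card V0 := Nat.card_pos
    have h2 : Nat.card V0 * 2 ≤ Nat.card V0 * q := Nat.mul_le_mul_left _ h.one_lt
    omega
  set u := x * v0 * x⁻¹ with hu
  have huN : u ∈ N i := (mem_normalizer_iff.1 hx.2 v0).1 hv0.2
  have hu1 : u ∉ V1 T V := by
    intro h1
    have h2 := (h.pl i).opp x hx hm v0 hv0 ⟨h1, huN⟩
    have h3 := h.V0n x⁻¹ (inv_mem hx.1) _ h2
    apply hv00
    have e : x⁻¹ * (x * v0 * x⁻¹) * x⁻¹⁻¹ = v0 := by group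
    rwa [e] at h3
  obtain ⟨a1, ha1, b1, hb1, he⟩ := (h.pl i).split hx' hm' huN
  obtain ⟨a, ha, z, hz, hau⟩ := NO3b.FPB.OfInK.exists_comm k h huN hu1 (inv_mem ha1)
  have haJ : a ∈ jj T := le_jj (h.AT i) ha
  have haS : a ∈ St H (N i) := ⟨h.TH (ChoiceBase.jj_le T haJ), h.N_le_normalizer i haJ⟩
  have hVc := h.Vcomm
  have ha1V : a1 ∈ V := h.NV i ha1.2
  have hzV : z ∈ V := h.NV i (h.V0N i hz)
  have h1 : a * u * a⁻¹ = z * (x' * b1 * x'⁻¹) := by
    calc a * u * a⁻¹ = (a * u * a⁻¹ * u⁻¹) * u := by group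
      _ = a1⁻¹ * z * (a1 * (x' * b1 * x'⁻¹)) := by rw [hau, ← he]
      _ = a1⁻¹ * (z * a1) * (x' * b1 * x'⁻¹) := by group
      _ = a1⁻¹ * (a1 * z) * (x' * b1 * x'⁻¹) := by rw [hVc z hzV a1 ha1V]
      _ = _ := by group
  have h2 : x'⁻¹ * (a * u * a⁻¹) * x' ∈ V1 T V ⊓ N i := by
    rw [h1]
    have e : x'⁻¹ * (z * (x' * b1 * x'⁻¹)) * x' = (x'⁻¹ * z * x'⁻¹⁻¹) * b1 := by group
    rw [e]
    exact mul_mem (h.V0V1 i (h.V0n x'⁻¹ (inv_mem hx'.1) z hz)) hb1
  refine ⟨a, ha, ?_⟩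
  -- `g = x'⁻¹ a x` does not move the line
  have hgS : x'⁻¹ * (a * x) ∈ St H (N i) := mul_mem (inv_mem hx') (mul_mem haS hx)
  have h3 : ¬ Mv (V1 T V ⊓ N i) (x'⁻¹ * (a * x)) := by
    intro hmg
    have e : x'⁻¹ * (a * x) * v0 * (x'⁻¹ * (a * x))⁻¹ = x'⁻¹ * (a * u * a⁻¹) * x' := by
      rw [hu]; group
    have h4 := (h.pl i).opp _ hgS hmg v0 hv0 (by rw [e]; exact h2)
    have h5 := h.V0n _ (inv_mem hgS.1) _ h4
    apply hv00
    have e2 : (x'⁻¹ * (a * x))⁻¹ * (x'⁻¹ * (a * x) * v0 * (x'⁻¹ * (a * x))⁻¹) *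
        (x'⁻¹ * (a * x))⁻¹⁻¹ = v0 := by group
    rwa [e2] at h5
  have h4 : cj (x'⁻¹ * (a * x)) (V1 T V ⊓ N i) ≤ V1 T V ⊓ N i := by
    rintro _ ⟨v, hv, rfl⟩
    by_contra hc
    exact h3 ⟨v, hv, hc⟩
  have h5 : cj (x'⁻¹ * (a * x)) (V1 T V ⊓ N i) = V1 T V ⊓ N i :=
    Subgroup.eq_of_le_of_card_ge h4 (card_cj _ _).ge
  have h6 := congrArg (cj x') h5
  rw [cj_cj] at h6
  rwa [show x' * (x'⁻¹ * (a * x)) = a * x by group] at h6

/-- `PP` centralises the other lines. -/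
theorem PP_cent (h : InK H T Q V V0 N A q) {x v : G} (hx : x ∈ PP H T V N i) {j : ι} (hij : i ≠ j)
    (hv : v ∈ V1 T V ⊓ N j) : x * v = v * x := by
  obtain ⟨r, hr, b, hb, rfl⟩ := h.mem_PP hx
  have h1 := h.bau_V1 hb hv.1
  have h2 := (mem_RR.1 hr).2.2.1 j hij v hv.2
  calc r * b * v = r * (b * v) := by group
    _ = (r * v) * b := by rw [h1]; group
    _ = v * (r * b) := by rw [h2]; group

theorem cj_fix {x : G} {A : Subgroup G} (hx : ∀ v ∈ A, x * v = v * x) : cj x A = A :=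
  cj_eq_of_mem_normalizer (centralizer_le_normalizer _ (mem_centralizer_iff.2 fun v hv =>
    (hx v hv).symm))

/-- **(N)** for natural modules. -/
theorem nrmK (k : BlkK H T V N i L) (h : InK H T Q V V0 N A q) {s : G} (hs : s ∈ T)
    (hn : s ∈ normalizer (QL T (NO3b.FPB.OfInK.N0 N i L) : Set G)) {z : G} (hz : z ∈ zj T)
    (hc : ∀ l ∈ L, l * z = z * l) : ∀ l ∈ L, l * (s * z * s⁻¹) = (s * z * s⁻¹) * l := by
  rw [NO3b.FPB.OfInK.QL_N0 k h] at hn
  have hsN := s_norm h hs hn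
  have hsS : s ∈ St H (N i) := mem_St.2 ⟨h.TH hs, hsN⟩
  obtain ⟨x, hx, hm⟩ := k.mv
  have hxS : x ∈ St H (N i) := k.LS h hx
  have hsx : cj s (V1 T V ⊓ N i) = V1 T V ⊓ N i := by rw [cj_inf, cj_V1 h hs, hsN]
  have hm' : Mv (V1 T V ⊓ N i) (s * x) := by
    obtain ⟨v, hv, hne⟩ := hm
    refine ⟨v, hv, fun h1 => hne ?_⟩
    rw [← hsx] at h1
    have h2 := mem_cj.1 h1
    have e : s⁻¹ * (s * x * v * (s * x)⁻¹) * s = x * v * x⁻¹ := by group
    rwa [e] at h2
  obtain ⟨b, hbA, hb⟩ := line_eq k h hxS (mul_mem hsS hxS) hm hm'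
  have hbB : b ∈ bau T := ChoiceBase.jj_le_bau T (le_jj (h.AT i) hbA)
  have hD : cj (b * x) (DK T V N) = cj (s * x) (DK T V N) := by
    refine Subgroup.eq_of_le_of_card_ge ?_ (by rw [card_cj, card_cj])
    conv_lhs => rw [DK, cj, Subgroup.map_iSup]
    refine iSup_le fun j => ?_
    change cj (b * x) (V1 T V ⊓ N j) ≤ _
    by_cases hij : i = j
    · subst hij
      rw [hb]
      exact cj_mono _ (le_DK T V N i)
    · have h1 : cj (b * x) (V1 T V ⊓ N j) = V1 T V ⊓ N j := by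
        rw [← cj_cj, cj_fix (A := V1 T V ⊓ N j) fun v hv => PP_cent h (k.LP hx) hij hv,
          cj_fix (A := V1 T V ⊓ N j) fun v hv => h.bau_V1 hbB (mem_inf.1 hv).1]
      rw [h1]
      obtain ⟨j', hj'⟩ := h.Nperm s⁻¹ (inv_mem (h.TH hs)) j
      have hij' : i ≠ j' := by
        rintro rfl
        have h2 : N j = N i := by
          have h3 := congrArg (cj s) hj'
          rw [cj_cj_inv, hsN] at h3
          exact h3
        apply h.V0_lt i
        have := h.Ninf i j hij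
        rwa [h2, inf_idem] at this
      have h2 : cj (s * x) (V1 T V ⊓ N j') = V1 T V ⊓ N j := by
        rw [← cj_cj, cj_fix (A := V1 T V ⊓ N j') fun v hv => PP_cent h (k.LP hx) hij' hv, cj_inf, cj_V1 h hs, ← hj',
          cj_cj_inv]
      rw [← h2]
      exact cj_mono _ (le_DK T V N j')
  haveI : Nonempty ι := ⟨i⟩
  refine nrm_of (H := H) (D := DK T V N) (NO3b.FPB.OfInK.bk k h (Y := ⊤) le_top
    (PB.le_norm_top L)) (fun g hg hgD => lemN h.syl h.ZcV h.Vcomm h.Vsq h.Vn h.Y_norm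
      (DK_le.trans InK.V1V) (fun b hb x hx => h.bau_V1 hb (DK_le hx)) ?_ hg hgD)
    (k.LH h) h.TH hx ((NO3b.FPB.OfInK.Mv_ln k h hx).2 hm) hbB hs hD hz hc
  -- `[V, B] ≤ D`
  intro b hb v hv
  have hbH : b ∈ H := h.TH (ChoiceBase.bau_le T hb)
  let U : Subgroup G :=
    { carrier := {w | w ∈ V ∧ b * w * b⁻¹ * w⁻¹ ∈ DK T V N}
      mul_mem' := by
        rintro x y ⟨hx, hx'⟩ ⟨hy, hy'⟩
        refine ⟨mul_mem hx hy, ?_⟩
        have hyV : b * y * b⁻¹ * y⁻¹ ∈ V := mul_mem (h.Vn b hbH y hy) (inv_mem hy)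
        have e : b * (x * y) * b⁻¹ * (x * y)⁻¹ =
          (b * x * b⁻¹) * ((b * y * b⁻¹ * y⁻¹) * x⁻¹) := by group
        rw [e, h.Vcomm _ hyV _ (inv_mem hx), ← mul_assoc]
        exact mul_mem hx' hy'
      one_mem' := ⟨one_mem _, by simp⟩
      inv_mem' := by
        rintro x ⟨hx, hx'⟩
        refine ⟨inv_mem hx, ?_⟩
        have hxV : b * x * b⁻¹ ∈ V := h.Vn b hbH x hx
        have e : b * x⁻¹ * b⁻¹ * x⁻¹⁻¹ = (b * x * b⁻¹)⁻¹ * x := by group
        rw [e, h.Vcomm _ (inv_mem hxV) _ hx]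
        have e2 : x * (b * x * b⁻¹)⁻¹ = (b * x * b⁻¹ * x⁻¹)⁻¹ := by group
        rw [e2]
        exact inv_mem hx' }
  have hU : (⨆ j, N j) ≤ U :=
    iSup_le fun j w hw => ⟨h.NV j hw, le_DK T V N j (h.bau_quad hb hw)⟩
  exact (hU (h.Nsup hv)).2

end K

/-! ### Symmetric type -/

section S

open Cfsg.Agent.Omega.SQ1.BauS
open Cfsg.Agent.Omega.NSix.NoBlk.Pair

variable [Finite G] {H T Q V L : Subgroup G} {ι : Type w} {N : ι → Subgroup G} {d t r : ι → G}
  {i : ι}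

/-- An element of `T` normalising `C_B(N i)` centralises `d i` and normalises `N i`. -/
theorem s_fix (h : In H T Q V N d t r) {s : G} (hs : s ∈ T)
    (hn : s ∈ normalizer (QL T (N i) : Set G)) :
    s * d i * s⁻¹ = d i ∧ ∀ v ∈ N i, s * v * s⁻¹ ∈ N i := by
  obtain ⟨j, hj, hjN⟩ := h.perm s hs i
  by_cases hij : i = j
  · subst hij
    exact ⟨hj, hjN⟩
  exfalso
  apply h.t_not_QQ i
  have h1 : s⁻¹ * t i * s ∈ QL T (N i) := by
    refine mem_QL.2 ⟨conj_mem_of_norm' (normalizer_le_bau T) (Subgroup.le_normalizer hs)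
      (h.t_bau i), fun v hv => ?_⟩
    have h2 := h.t_N' (Ne.symm hij) (hjN v hv)
    have h3 : t i * (s * v * s⁻¹) = (s * v * s⁻¹) * t i := by
      calc t i * (s * v * s⁻¹) = (t i * (s * v * s⁻¹) * (t i)⁻¹) * t i := by group
        _ = _ := by rw [h2]
    calc s⁻¹ * t i * s * v = s⁻¹ * (t i * (s * v * s⁻¹)) * s := by group
      _ = s⁻¹ * ((s * v * s⁻¹) * t i) * s := by rw [h3]
      _ = v * (s⁻¹ * t i * s) := by group
  have h2 := (mem_normalizer_iff.1 hn _).1 h1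
  have e : s * (s⁻¹ * t i * s) * s⁻¹ = t i := by group
  rwa [e] at h2

/-- **(N)** for symmetric type. -/
theorem nrmS (hT : Syl T H) (k : Blk H T V d r i L) (h : In H T Q V N d t r) {s : G} (hs : s ∈ T)
    (hn : s ∈ normalizer (QL T (N i) : Set G)) {z : G} (hz : z ∈ zj T)
    (hc : ∀ l ∈ L, l * z = z * l) : ∀ l ∈ L, l * (s * z * s⁻¹) = (s * z * s⁻¹) * l := by
  obtain ⟨hsd, hsN⟩ := s_fix h hs hn
  obtain ⟨x, hx, hm⟩ := k.mv
  set e := x * d i * x⁻¹ with he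
  have heN : e ∈ N i := k.L_N h hx (h.dN i)
  have he1 : e ≠ 1 := fun h1 => h.d1 i (by
    calc d i = x⁻¹ * (x * d i * x⁻¹) * x := by group
      _ = 1 := by rw [← he, h1]; group)
  have hse : s * e * s⁻¹ ∈ N i := hsN e heN
  have hse1 : s * e * s⁻¹ ≠ 1 := fun h1 => he1 (by
    calc e = s⁻¹ * (s * e * s⁻¹) * s := by group
      _ = 1 := by rw [h1]; group)
  have hsed : s * e * s⁻¹ ≠ d i := fun h1 => hm (by
    calc e = s⁻¹ * (s * e * s⁻¹) * s := by group
      _ = s⁻¹ * (s * d i * s⁻¹) * s := by rw [h1, hsd]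
      _ = d i := by group)
  -- `b e b⁻¹ = s e s⁻¹`
  set m := r i * d i * (r i)⁻¹ with hmdef
  have htm : t i * m * (t i)⁻¹ = d i * m := h.t_m i
  have htdm : t i * (d i * m) * (t i)⁻¹ = m := by
    have e1 : t i * (d i * m) * (t i)⁻¹ = (t i * d i * (t i)⁻¹) * (t i * m * (t i)⁻¹) := by group
    rw [e1, h.t_d i, htm, ← mul_assoc, h.mulself (h.dV i), one_mul]
  obtain ⟨b, hb, hbe⟩ : ∃ b ∈ bau T, b * e * b⁻¹ = s * e * s⁻¹ := by
    rcases h.mem_N i heN with h1 | h1 | h1 | h1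
    · exact absurd h1 he1
    · exact absurd h1 hm
    · rcases h.mem_N i hse with h2 | h2 | h2 | h2
      · exact absurd h2 hse1
      · exact absurd h2 hsed
      · exact ⟨1, one_mem _, by rw [h2, h1]; group⟩
      · exact ⟨t i, h.t_bau i, by rw [h2, h1]; exact htm⟩
    · rcases h.mem_N i hse with h2 | h2 | h2 | h2
      · exact absurd h2 hse1
      · exact absurd h2 hsed
      · exact ⟨t i, h.t_bau i, by rw [h2, h1]; exact htdm⟩
      · exact ⟨1, one_mem _, by rw [h2, h1]; group⟩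
  have hxd : ∀ j, i ≠ j → x * d j * x⁻¹ = d j := fun j hij => by
    rw [NO3b.FPB.OfS.cent_d k h hij x hx]; group
  have hD : cj (b * x) (closure (Set.range d)) = cj (s * x) (closure (Set.range d)) := by
    refine Subgroup.eq_of_le_of_card_ge ?_ (by rw [card_cj, card_cj])
    change Subgroup.map _ _ ≤ _
    rw [Subgroup.map_le_iff_le_comap, closure_le]
    rintro _ ⟨j, rfl⟩
    change b * x * d j * (b * x)⁻¹ ∈ cj (s * x) (closure (Set.range d))
    by_cases hij : i = j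
    · subst hij
      have e1 : b * x * d i * (b * x)⁻¹ = s * x * d i * (s * x)⁻¹ := by
        calc b * x * d i * (b * x)⁻¹ = b * (x * d i * x⁻¹) * b⁻¹ := by group
          _ = s * (x * d i * x⁻¹) * s⁻¹ := hbe
          _ = _ := by group
      rw [e1]
      exact conj_mem_cj (subset_closure ⟨i, rfl⟩)
    · have e1 : b * x * d j * (b * x)⁻¹ = d j := by
        calc b * x * d j * (b * x)⁻¹ = b * (x * d j * x⁻¹) * b⁻¹ := by group
          _ = b * d j * b⁻¹ := by rw [hxd j hij]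
          _ = d j := (h.EE_good (h.bau_EE hb)).fixd j
      rw [e1]
      obtain ⟨j', hj', -⟩ := h.perm s⁻¹ (inv_mem hs) j
      have hij' : i ≠ j' := by
        rintro rfl
        apply hij
        refine (h.d_inj ?_).symm
        calc d j = s * (s⁻¹ * d j * s⁻¹⁻¹) * s⁻¹ := by group
          _ = s * d i * s⁻¹ := by rw [hj']
          _ = d i := hsd
      have e2 : d j = s * x * d j' * (s * x)⁻¹ := by
        calc d j = s * (s⁻¹ * d j * s⁻¹⁻¹) * s⁻¹ := by group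
          _ = s * (x * d j' * x⁻¹) * s⁻¹ := by rw [hj', hxd j' hij']
          _ = _ := by group
      rw [e2]
      exact conj_mem_cj (subset_closure ⟨j', rfl⟩)
  refine nrm_of (H := H) (D := closure (Set.range d)) (NO3b.FPB.OfS.bk k h (Y := ⊤) le_top
    (PB.le_norm_top L)) (fun g hg hgD => lemN hT h.ZcV h.Vcomm h.Vsq h.Vn (h.Y_norm i)
      h.D_le_V (fun b hb x hx => ?_) (fun b hb v hv => (h.EE_good (h.bau_EE hb)).comm v hv) hg hgD)
    (k.LH h) h.TH hx ((NO3b.FPB.OfS.mv_iff k h hx).2 hm) hb hs hD hz hc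
  exact ((mem_bau.1 hb).2 x (h.D_le_Z hx)).symm

end S

end Cfsg.Agent.Omega.NSix.NoBlk.Nrm

end

section


/-!
# THEOREM BL* (OMEGA #18620, helper107), part 2: the subgroups `X_b = [V, b]`

`XX W b` : the subgroup generated by the commutators `[b, w]`, `w ∈ W`.  For a Baumann block `(L, V)` over
`B = bau S`, `b ∈ B`, `W = V Z_J` it is `[V, b]`; if `b ∉ P = C_B(V)`, then `X_b ∩ C(L) = 1` and
`Z_J = X_b C_{Z_J}(L)` (`split_XX`).
-/

set_option autoImplicit false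

namespace Cfsg.Agent.Omega.NSix.NoBlk.XB

open Subgroup Cfsg Cfsg.Agent.PLocal.ThompsonJ Cfsg.Agent.ZN Cfsg.Agent.ZN.ChoiceBase
open Cfsg.Agent.ZN.ChoiceSit
open Cfsg.Agent.Omega.SQ1.Bau (elem_comm elem_sq mem_sup_comm card_sup_comm Mv mv_inv)
open Cfsg.Agent.Omega.SQ1.BauK.InK (QL mem_QL not_QL)
open Cfsg.Agent.Omega.NO3b.FPB.Base Cfsg.Agent.Omega.NO3b.FPB.Claim
open Cfsg.Agent.Omega.NSix.NoBlk.Pair

universe u

variable {G : Type u} [Group G] {S T L V L' V' Y Y' W : Subgroup G}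

/-- The subgroup generated by the commutators `[b, w]`, `w ∈ W`. -/
def XX (W : Subgroup G) (b : G) : Subgroup G :=
  Subgroup.closure {x | ∃ w ∈ W, x = b * w * b⁻¹ * w⁻¹}

theorem mem_XX_of {b w : G} (hw : w ∈ W) : b * w * b⁻¹ * w⁻¹ ∈ XX W b :=
  subset_closure ⟨w, hw, rfl⟩

theorem cj_XX (g : G) (W : Subgroup G) (b : G) : cj g (XX W b) = XX (cj g W) (g * b * g⁻¹) := by
  unfold XX
  change Subgroup.map _ _ = _
  rw [MonoidHom.map_closure]
  congr 1
  ext x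
  constructor
  · rintro ⟨_, ⟨w, hw, rfl⟩, rfl⟩
    refine ⟨g * w * g⁻¹, conj_mem_cj hw, ?_⟩
    rw [comm_el]
    rfl
  · rintro ⟨w', hw', rfl⟩
    obtain ⟨w, hw, rfl⟩ := mem_cj_iff.1 hw'
    refine ⟨b * w * b⁻¹ * w⁻¹, ⟨w, hw, rfl⟩, ?_⟩
    rw [comm_el]
    rfl

section

variable (k : PB S L V)
include k

theorem conj_V {b v : G} (hb : b ∈ bau S) (hv : v ∈ V) : b * v * b⁻¹ ∈ V :=
  conj_mem_of_norm k.top.LV (k.top.BL hb) hv

theorem comm_ln {b v : G} (hb : b ∈ bau S) (hv : v ∈ V) : b * v * b⁻¹ * v⁻¹ ∈ ln S V :=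
  mem_ln.2 ⟨mul_mem (conj_V k hb hv) (inv_mem hv), k.top.quad b hb v hv⟩

theorem mul_comm_el {b v w : G} (hb : b ∈ bau S) (hv : v ∈ V) (hw : w ∈ V) :
    b * (v * w) * b⁻¹ * (v * w)⁻¹ = b * v * b⁻¹ * v⁻¹ * (b * w * b⁻¹ * w⁻¹) := by
  have h1 := elem_comm k.elem _ (mul_mem (conj_V k hb hw) (inv_mem hw)) _ (inv_mem hv)
  calc b * (v * w) * b⁻¹ * (v * w)⁻¹ = b * v * b⁻¹ * (b * w * b⁻¹ * w⁻¹ * v⁻¹) := by group
    _ = b * v * b⁻¹ * (v⁻¹ * (b * w * b⁻¹ * w⁻¹)) := by rw [h1]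
    _ = _ := by group

/-- The commutator homomorphism on `V`. -/
theorem exists_hom {b : G} (hb : b ∈ bau S) :
    ∃ φ : V →* G, ∀ v : V, φ v = b * v * b⁻¹ * (v : G)⁻¹ :=
  ⟨MonoidHom.mk' (fun v => b * v * b⁻¹ * (v : G)⁻¹) fun v w => mul_comm_el k hb v.2 w.2,
    fun _ => rfl⟩

theorem mem_XX [Finite G] {b x : G} (hb : b ∈ bau S) :
    x ∈ XX (V ⊔ zj S) b ↔ ∃ v ∈ V, x = b * v * b⁻¹ * v⁻¹ := by
  constructor
  · intro hx
    obtain ⟨φ, hφ⟩ := exists_hom k hb
    have h1 : XX (V ⊔ zj S) b ≤ φ.range := by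
      unfold XX
      rw [closure_le]
      rintro _ ⟨w, hw, rfl⟩
      obtain ⟨v, hv, z, hz, rfl⟩ := mem_sup_comm (fun a ha c hc => k.Vz ha hc) hw
      refine ⟨⟨v, hv⟩, ?_⟩
      rw [hφ]
      have h2 : b * z = z * b := ((mem_bau.1 hb).2 z hz).symm
      exact (comm_drop h2).symm
    obtain ⟨v, hv⟩ := h1 hx
    exact ⟨v, v.2, by rw [← hv, hφ]⟩
  · rintro ⟨v, hv, rfl⟩
    exact mem_XX_of (mem_sup_left hv)

theorem XX_le_ln [Finite G] {b : G} (hb : b ∈ bau S) : XX (V ⊔ zj S) b ≤ ln S V := by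
  intro x hx
  obtain ⟨v, hv, rfl⟩ := (mem_XX k hb).1 hx
  exact comm_ln k hb hv

theorem XX_le_zj [Finite G] {b : G} (hb : b ∈ bau S) : XX (V ⊔ zj S) b ≤ zj S :=
  fun _ hx => (mem_ln.1 (XX_le_ln k hb hx)).2

/-- `X_b` depends only on the coset `b P`. -/
theorem XX_coset [Finite G] {b p : G} (hb : b ∈ bau S) (hp : p ∈ QL S V) :
    XX (V ⊔ zj S) (b * p) = XX (V ⊔ zj S) b := by
  ext x
  rw [mem_XX k (mul_mem hb (mem_QL.1 hp).1), mem_XX k hb]
  constructor
  · rintro ⟨v, hv, rfl⟩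
    exact ⟨v, hv, comm_drop' (Bk.P_cent hp hv)⟩
  · rintro ⟨v, hv, rfl⟩
    exact ⟨v, hv, (comm_drop' (Bk.P_cent hp hv)).symm⟩

/-- `X_b ∩ C(L) = 1`. -/
theorem XX_disj [Finite G] {b x : G} (hb : b ∈ bau S) (hx : x ∈ XX (V ⊔ zj S) b)
    (hc : ∀ l ∈ L, l * x = x * l) : x = 1 := by
  obtain ⟨v, hv, rfl⟩ := (mem_XX k hb).1 hx
  exact comm_iff.1 (k.top.faith v hv b hb hc)

/-- `|X_b| |V ∩ Z_J| = |V|` -/
theorem card_XX [Finite G] {b : G} (hb : b ∈ bau S) (hbP : b ∉ QL S V) :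
    Nat.card (XX (V ⊔ zj S) b) * Nat.card (ln S V) = Nat.card V := by
  obtain ⟨φ, hφ⟩ := exists_hom k hb
  have h1 : φ.range = XX (V ⊔ zj S) b := by
    ext x
    rw [mem_XX k hb]
    constructor
    · rintro ⟨v, rfl⟩
      exact ⟨v, v.2, hφ v⟩
    · rintro ⟨v, hv, rfl⟩
      exact ⟨⟨v, hv⟩, hφ _⟩
  have h2 : φ.ker = (ln S V).subgroupOf V := by
    ext v
    rw [MonoidHom.mem_ker, hφ, mem_subgroupOf, ← comm_iff]
    constructor
    · intro h3
      exact mem_ln.2 ⟨v.2, k.top.cent b hb hbP v v.2 h3⟩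
    · intro h3
      exact ((mem_bau.1 hb).2 v (mem_ln.1 h3).2).symm
  have h3 : Nat.card φ.ker = Nat.card (ln S V) := by
    rw [h2]
    exact Nat.card_congr (Subgroup.subgroupOfEquivOfLe inf_le_left).toEquiv
  have h4 := φ.ker.card_mul_index
  rw [Subgroup.index_ker, h1, h3] at h4
  rw [mul_comm]
  exact h4

/-- `Z_J = X_b C_{Z_J}(L)`. -/
theorem split_XX [Finite G] {b z : G} (hb : b ∈ bau S) (hbP : b ∉ QL S V) (hz : z ∈ zj S) :
    ∃ x ∈ XX (V ⊔ zj S) b, ∃ c ∈ zj S, (∀ l ∈ L, l * c = c * l) ∧ z = x * c := by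
  obtain ⟨g, hg, hm⟩ := k.top.ne
  set C := ln S V ⊓ centralizer (L : Set G) with hC
  set X := XX (V ⊔ zj S) b with hX
  have hlnV : ln S V ≤ V := fun v hv => (mem_ln.1 hv).1
  have hcomm : ∀ a ∈ V, ∀ c ∈ V, a * c = c * a := fun a ha c hc => elem_comm k.elem a ha c hc
  -- `ln ∩ ln^g ≤ C`
  have h1 : ln S V ⊓ cj g (ln S V) ≤ C := by
    rintro v ⟨h1, h2⟩
    refine ⟨h1, ?_⟩
    have h2' := mem_cj.1 h2
    exact NO3b.FPB.Claim.Bk.inter k.top hg hm (mem_ln.1 h1).2 (mem_ln.1 h2').2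
  have hgln : cj g (ln S V) ≤ V := by
    refine (cj_mono g hlnV).trans ?_
    rw [cj_eq_of_mem_normalizer (k.top.LV hg)]
  have h2 := card_sup_comm (A := ln S V) (B := cj g (ln S V))
    (fun a ha c hc => hcomm a (hlnV ha) c (hgln hc))
  rw [card_cj] at h2
  have h3 : Nat.card ↥(ln S V ⊔ cj g (ln S V)) ≤ Nat.card V :=
    Subgroup.card_le_of_le (sup_le hlnV hgln)
  have h4 : Nat.card ↥(ln S V ⊓ cj g (ln S V)) ≤ Nat.card C := Subgroup.card_le_of_le h1
  have h5 : Nat.card (ln S V) * Nat.card (ln S V) ≤ Nat.card V * Nat.card C := by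
    rw [← h2]
    exact Nat.mul_le_mul h3 h4
  have h6 := card_XX k hb hbP
  have hpos : 0 < Nat.card (ln S V) := Nat.card_pos
  have h7 : Nat.card (ln S V) ≤ Nat.card X * Nat.card C := by
    rw [← h6] at h5
    refine Nat.le_of_mul_le_mul_right (c := Nat.card (ln S V)) ?_ hpos
    calc Nat.card (ln S V) * Nat.card (ln S V) ≤ Nat.card X * Nat.card (ln S V) * Nat.card C := h5
      _ = Nat.card X * Nat.card C * Nat.card (ln S V) := by ring
  have hXln : X ≤ ln S V := XX_le_ln k hb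
  have h8 := card_sup_comm (A := X) (B := C)
    (fun a ha c hc => hcomm a (hlnV (hXln ha)) c (hlnV (mem_inf.1 hc).1))
  have h9 : X ⊓ C = ⊥ := by
    rw [eq_bot_iff]
    rintro x ⟨hx, hxC⟩
    rw [mem_bot]
    exact XX_disj k hb hx fun l hl => mem_centralizer_iff.1 hxC.2 l hl
  rw [h9, Subgroup.card_bot, mul_one] at h8
  have h10 : X ⊔ C = ln S V := by
    refine Subgroup.eq_of_le_of_card_ge (sup_le hXln inf_le_left) ?_
    rw [h8]
    exact h7
  obtain ⟨a, ha, c, hc, hlc, rfl⟩ := k.top.split z hz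
  rw [← h10] at ha
  obtain ⟨x, hx, c', hc', rfl⟩ := mem_sup_comm
    (fun a ha c hc => hcomm a (hlnV (hXln ha)) c (hlnV (mem_inf.1 hc).1)) ha
  refine ⟨x, hx, c' * c, mul_mem (mem_ln.1 (mem_inf.1 hc').1).2 hc, fun l hl => ?_, by group⟩
  have h11 : l * c' = c' * l := mem_centralizer_iff.1 hc'.2 l hl
  calc l * (c' * c) = (l * c') * c := by group
    _ = c' * (l * c) := by rw [h11]; group
    _ = c' * c * l := by rw [hlc l hl]; group

end

end Cfsg.Agent.Omega.NSix.NoBlk.XB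

end

section


/-!
# THEOREM BL* (OMEGA #18620, helper107), part 3: the complements `E_b`

`Ctx S P Q E L V` : `P` normalises `B = bau S`, `Q`, `E`; `E = C_{Z_J}(Q)`; `(L, V)` is a Baumann block over `B`,
`C_E(L) ≠ 1`, and `N_Q(C_B(V))` normalises `C_{Z_J}(L)`.

* `Good` : `b ∈ B - C_B(V)` whose coset is fixed by `N_Q(C_B(V))`;
* `EB` : `E_b = E ∩ ⟨X_b^s | s ∈ Q⟩`;
* `EB_disj`, `EB_split` : `E = E_b × C_E(L)`;
* `apartQ` : `P_L^y ≠ P_L^s` for all `s ∈ Q` implies `E_b ≤ C(L^y)`;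
* `same` : otherwise `V Z_J` is normalised.
-/

set_option autoImplicit false

namespace Cfsg.Agent.Omega.NSix.NoBlk.Core

open Subgroup Cfsg Cfsg.Agent.PLocal.ThompsonJ Cfsg.Agent.ZN Cfsg.Agent.ZN.ChoiceBase
open Cfsg.Agent.ZN.ChoiceSit
open Cfsg.Agent.Omega.SQ1.Bau (elem_comm elem_sq mem_sup_comm card_sup_comm Mv mv_inv)
open Cfsg.Agent.Omega.SQ1.BauK.InK (QL mem_QL not_QL)
open Cfsg.Agent.Omega.NO3b.FPB.Base Cfsg.Agent.Omega.NO3b.FPB.Claim
open Cfsg.Agent.Omega.NSix.NoBlk.Pair Cfsg.Agent.Omega.NSix.NoBlk.XB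

universe u

variable {G : Type u} [Group G] {S : Sylow 2 G} {P Q E L V W : Subgroup G}

/-- see the head of the file -/
structure Ctx (S : Sylow 2 G) (P Q E L V : Subgroup G) : Prop where
  hG : IsCharacteristicTwoType G
  k : PB (S : Subgroup G) L V
  nB : P ≤ normalizer (bau (S : Subgroup G) : Set G)
  Q2 : IsPGroup 2 Q
  QP : Q ≤ P
  PQ : P ≤ normalizer (Q : Set G)
  EZ : E ≤ zj (S : Subgroup G)
  PE : P ≤ normalizer (E : Set G)
  QE : ∀ s ∈ Q, ∀ e ∈ E, s * e = e * s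
  CE : ∀ z ∈ zj (S : Subgroup G), (∀ s ∈ Q, s * z = z * s) → z ∈ E
  nK : ∃ d ∈ E, d ≠ 1 ∧ ∀ l ∈ L, l * d = d * l
  nrm : ∀ t ∈ Q, t ∈ normalizer (QL (S : Subgroup G) V : Set G) → ∀ z ∈ zj (S : Subgroup G),
    (∀ l ∈ L, l * z = z * l) → ∀ l ∈ L, l * (t * z * t⁻¹) = (t * z * t⁻¹) * l

/-- `b ∈ B - C_B(V)`, the coset `b C_B(V)` is fixed by `N_Q(C_B(V))`. -/
structure Good (S Q V : Subgroup G) (b : G) : Prop where
  mem : b ∈ bau S
  not : b ∉ QL S V
  fix : ∀ s ∈ Q, s ∈ normalizer (QL S V : Set G) → b⁻¹ * (s * b * s⁻¹) ∈ QL S V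

/-- `⟨X_b^s | s ∈ Q⟩` -/
def XQ (Q W : Subgroup G) (b : G) : Subgroup G := ⨆ s : Q, cj (s : G) (XX W b)

/-- `E_b` -/
def EB (E Q W : Subgroup G) (b : G) : Subgroup G := E ⊓ XQ Q W b

theorem cj_sup (g : G) (H K : Subgroup G) : cj g (H ⊔ K) = cj g H ⊔ cj g K := Subgroup.map_sup _ _ _

theorem cj_iSup {ι : Sort*} (g : G) (F : ι → Subgroup G) : cj g (⨆ i, F i) = ⨆ i, cj g (F i) :=
  Subgroup.map_iSup _ _

namespace Ctx

variable [Finite G] (h : Ctx S P Q E L V)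
include h

theorem cj_bau {g : G} (hg : g ∈ P) : cj g (bau (S : Subgroup G)) = bau (S : Subgroup G) :=
  cj_eq_of_mem_normalizer (h.nB hg)

theorem cj_zj {g : G} (hg : g ∈ P) : cj g (zj (S : Subgroup G)) = zj (S : Subgroup G) := by
  have h1 := normalizer_le_of_cj (F := zj) zj_cj (bau (S : Subgroup G)) (h.nB hg)
  rw [ChoiceBase.zj_bau] at h1
  exact cj_eq_of_mem_normalizer h1

theorem cj_E {g : G} (hg : g ∈ P) : cj g E = E := cj_eq_of_mem_normalizer (h.PE hg)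

theorem cj_Q {g : G} (hg : g ∈ P) : cj g Q = Q := cj_eq_of_mem_normalizer (h.PQ hg)

theorem pb {g : G} (hg : g ∈ P) : PB (S : Subgroup G) (cj g L) (cj g V) := h.k.cjn (h.nB hg)

theorem QL_cj {g : G} (hg : g ∈ P) :
    QL (S : Subgroup G) (cj g V) = cj g (QL (S : Subgroup G) V) := PB.QL_cjn (h.nB hg)

theorem conj_bau {g b : G} (hg : g ∈ P) (hb : b ∈ bau (S : Subgroup G)) :
    g * b * g⁻¹ ∈ bau (S : Subgroup G) := conj_mem_of_norm h.nB hg hb

/-- `Q` does not move the elements of `E`. -/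
theorem commQ {s e : G} (hs : s ∈ Q) (he : e ∈ E) (hc : ∀ l ∈ L, l * e = e * l) :
    ∀ l ∈ cj s L, l * e = e * l := by
  intro l hl
  obtain ⟨l', hl', rfl⟩ := mem_cj_iff.1 hl
  have h1 : e = s * e * s⁻¹ := by rw [h.QE s hs e he]; group
  calc s * l' * s⁻¹ * e = s * l' * s⁻¹ * (s * e * s⁻¹) := by rw [← h1]
    _ = s * (l' * e) * s⁻¹ := by group
    _ = s * (e * l') * s⁻¹ := by rw [hc l' hl']
    _ = (s * e * s⁻¹) * (s * l' * s⁻¹) := by group
    _ = e * (s * l' * s⁻¹) := by rw [← h1]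

/-- Blocks with the same `C_B(V)`. -/
theorem same {y d : G} (hy : y ∈ P) (hyn : cj y (QL (S : Subgroup G) V) = QL (S : Subgroup G) V)
    (hd : d ∈ E) (hd1 : d ≠ 1) (hL : ∀ l ∈ L, l * d = d * l) (hL' : ∀ l ∈ cj y L, l * d = d * l) :
    cj y (V ⊔ zj (S : Subgroup G)) = V ⊔ zj (S : Subgroup G) := by
  have h1 := same' h.hG S h.k (h.pb hy) hd1 (h.EZ hd) hL hL' (by rw [h.QL_cj hy, hyn])
  refine Subgroup.eq_of_le_of_card_ge ?_ (card_cj _ _).ge
  rw [cj_sup, h.cj_zj hy]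
  exact sup_le h1 le_sup_right

/-- Blocks with different `C_B(V)`. -/
theorem apart {x y d b : G} (hx : x ∈ P) (hy : y ∈ P) (hd : d ∈ E) (hd1 : d ≠ 1)
    (hL : ∀ l ∈ cj y L, l * d = d * l) (hL' : ∀ l ∈ cj x L, l * d = d * l)
    (hne : cj y (QL (S : Subgroup G) V) ≠ cj x (QL (S : Subgroup G) V))
    (hb : b ∈ bau (S : Subgroup G)) :
    ∀ e ∈ cj x (XX (V ⊔ zj (S : Subgroup G)) b), ∀ l ∈ cj y L, l * e = e * l := by
  intro e he l hl
  obtain ⟨e', he', rfl⟩ := mem_cj_iff.1 he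
  obtain ⟨v, hv, rfl⟩ := (mem_XX h.k hb).1 he'
  have h1 := claim' h.hG S (h.pb hy) (h.pb hx) hd1 (h.EZ hd) hL hL'
    (by rwa [h.QL_cj hy, h.QL_cj hx]) (x * b * x⁻¹) (h.conj_bau hx hb) (x * v * x⁻¹)
    (conj_mem_cj hv)
  rw [comm_el] at h1
  exact mem_centralizer_iff.1 h1 l hl

/-- `N_Q(C_B(V))` normalises `X_b`. -/
theorem cj_XX_eq {b s : G} (hb : Good (S : Subgroup G) Q V b) (hs : s ∈ Q)
    (hn : cj s (QL (S : Subgroup G) V) = QL (S : Subgroup G) V) :
    cj s (XX (V ⊔ zj (S : Subgroup G)) b) = XX (V ⊔ zj (S : Subgroup G)) b := by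
  obtain ⟨d, hd, hd1, hL⟩ := h.nK
  have h1 := h.same (h.QP hs) hn hd hd1 hL (h.commQ hs hd hL)
  rw [cj_XX, h1]
  have h2 := hb.fix s hs (mem_normalizer_iff_cj.2 hn)
  have e : s * b * s⁻¹ = b * (b⁻¹ * (s * b * s⁻¹)) := by group
  rw [e, XX_coset h.k hb.mem h2]

theorem cj_XX_ne {b s t : G} (hb : Good (S : Subgroup G) Q V b) (hs : s ∈ Q) (ht : t ∈ Q)
    (hne : cj s (XX (V ⊔ zj (S : Subgroup G)) b) ≠ cj t (XX (V ⊔ zj (S : Subgroup G)) b)) :
    cj s (QL (S : Subgroup G) V) ≠ cj t (QL (S : Subgroup G) V) := by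
  intro he
  apply hne
  have h1 : cj (t⁻¹ * s) (QL (S : Subgroup G) V) = QL (S : Subgroup G) V := by
    rw [← cj_cj, he, cj_inv_cj]
  have h2 := h.cj_XX_eq hb (mul_mem (inv_mem ht) hs) h1
  have h3 := congrArg (cj t) h2
  rw [cj_cj] at h3
  rwa [show t * (t⁻¹ * s) = s by group] at h3

theorem XX_le_zj {b s : G} (hb : b ∈ bau (S : Subgroup G)) (hs : s ∈ P) :
    cj s (XX (V ⊔ zj (S : Subgroup G)) b) ≤ zj (S : Subgroup G) := by
  have h1 := cj_mono s (XB.XX_le_zj h.k hb)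
  rwa [h.cj_zj hs] at h1

/-- `X_b^s ∩ C(L^s) = 1` -/
theorem XX_disj {b s x : G} (hb : b ∈ bau (S : Subgroup G))
    (hx : x ∈ cj s (XX (V ⊔ zj (S : Subgroup G)) b)) (hc : ∀ l ∈ cj s L, l * x = x * l) :
    x = 1 := by
  obtain ⟨x', hx', rfl⟩ := mem_cj_iff.1 hx
  rw [XB.XX_disj h.k hb hx' fun l hl => comm_conj_iff.1 (hc _ (conj_mem_cj hl))]
  group

/-- An element of `⟨X_b^s | s ∈ Q⟩` centralised by all `L^s` is trivial. -/
theorem XQ_disj {b : G} (hb : Good (S : Subgroup G) Q V b) {e : G}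
    (he : e ∈ XQ Q (V ⊔ zj (S : Subgroup G)) b) (hc : ∀ s ∈ Q, ∀ l ∈ cj s L, l * e = e * l) :
    e = 1 := by
  classical
  haveI : Fintype Q := Fintype.ofFinite _
  set X := XX (V ⊔ zj (S : Subgroup G)) b with hX
  have hXz : ∀ s : Q, cj (s : G) X ≤ zj (S : Subgroup G) := fun s =>
    h.XX_le_zj hb.mem (h.QP s.2)
  have hzz : ∀ a ∈ zj (S : Subgroup G), ∀ c ∈ zj (S : Subgroup G), a * c = c * a := by
    intro a ha c hc
    have h1 : IsElementaryAbelian 2 (zj (S : Subgroup G)) := by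
      rw [← ChoiceBase.zc_bau]
      exact ZN.isElementaryAbelian_zc _
    exact elem_comm h1 a ha c hc
  obtain ⟨d, hd, hd1, hL⟩ := h.nK
  have key : ∀ F : Finset Q, ∀ e ∈ (⨆ s ∈ F, cj (s : G) X : Subgroup G),
      (∀ s ∈ Q, ∀ l ∈ cj s L, l * e = e * l) → e = 1 := by
    intro F
    induction F using Finset.induction_on with
    | empty =>
      intro e he _
      simpa using he
    | insert s0 F hs0 ih =>
      intro e he hc
      rw [Finset.iSup_insert] at he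
      by_cases hex : ∃ s ∈ F, cj (s : G) X = cj (s0 : G) X
      · obtain ⟨s, hs, hse⟩ := hex
        refine ih e ?_ hc
        have h1 : cj (s0 : G) X ≤ ⨆ s ∈ F, cj (s : G) X := by
          rw [← hse]
          exact le_iSup₂ (f := fun (s : Q) (_ : s ∈ F) => cj (s : G) X) s hs
        rwa [sup_eq_right.2 h1] at he
      · push Not at hex
        have hle : (⨆ s ∈ F, cj (s : G) X : Subgroup G) ≤ zj (S : Subgroup G) :=
          iSup₂_le fun s _ => hXz s
        obtain ⟨x, hx, e', he', rfl⟩ := mem_sup_comm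
          (fun a ha c hc => hzz a (hXz s0 ha) c (hle hc)) he
        have h2 : ∀ l ∈ cj (s0 : G) L, l * e' = e' * l := by
          have h3 : (⨆ s ∈ F, cj (s : G) X : Subgroup G) ≤
              centralizer (cj (s0 : G) L : Set G) := by
            refine iSup₂_le fun s hs y hy => mem_centralizer_iff.2 fun l hl => ?_
            refine h.apart (h.QP s.2) (h.QP s0.2) hd hd1 (h.commQ s0.2 hd hL)
              (h.commQ s.2 hd hL) (h.cj_XX_ne hb s0.2 s.2 (Ne.symm (hex s hs))) hb.mem y hy l hl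
          exact fun l hl => mem_centralizer_iff.1 (h3 he') l hl
        have h4 : x = 1 := by
          refine h.XX_disj hb.mem hx fun l hl => ?_
          have h5 := hc s0 s0.2 l hl
          have h6 := h2 l hl
          have h7 : l * x * e' = x * l * e' := by
            calc l * x * e' = l * (x * e') := by group
              _ = x * (e' * l) := by rw [h5]; group
              _ = x * l * e' := by rw [← h6]; group
          exact mul_right_cancel h7
        subst h4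
        rw [one_mul] at hc ⊢
        exact ih e' he' hc
  refine key Finset.univ e ?_ hc
  have h1 : XQ Q (V ⊔ zj (S : Subgroup G)) b ≤ ⨆ s ∈ (Finset.univ : Finset Q), cj (s : G) X :=
    iSup_le fun s => le_iSup₂ (f := fun (s : Q) (_ : s ∈ (Finset.univ : Finset Q)) =>
      cj (s : G) X) s (Finset.mem_univ s)
  exact h1 he

/-- `E_b ∩ C_E(L) = 1` -/
theorem EB_disj {b : G} (hb : Good (S : Subgroup G) Q V b) {e : G}
    (he : e ∈ EB E Q (V ⊔ zj (S : Subgroup G)) b) (hc : ∀ l ∈ L, l * e = e * l) : e = 1 :=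
  h.XQ_disj hb (mem_inf.1 he).2 fun _ hs => h.commQ hs (mem_inf.1 he).1 hc

/-- The norm of an element of `C_{X_b}(N_Q(C_B(V)))`. -/
theorem norm {b x : G} (hb : Good (S : Subgroup G) Q V b)
    (hx : x ∈ XX (V ⊔ zj (S : Subgroup G)) b)
    (hx1 : ∀ s ∈ Q ⊓ normalizer (QL (S : Subgroup G) V : Set G), s * x = x * s) :
    ∃ y ∈ EB E Q (V ⊔ zj (S : Subgroup G)) b, y * x⁻¹ ∈ centralizer (L : Set G) := by
  have hZel : IsElementaryAbelian 2 (zj (S : Subgroup G)) := by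
    rw [← ChoiceBase.zc_bau]
    exact ZN.isElementaryAbelian_zc _
  obtain ⟨d, hd, hd1, hL⟩ := h.nK
  have hxz : x ∈ zj (S : Subgroup G) := XB.XX_le_zj h.k hb.mem hx
  have hQz : Q ≤ normalizer (zj (S : Subgroup G) : Set G) := fun s hs =>
    mem_normalizer_iff_cj.2 (h.cj_zj (h.QP hs))
  obtain ⟨y, hy, hyD, hyQ, hyx⟩ := NO3b.FPB.Main.exists_prod (S := Q)
    (S₁ := Q ⊓ normalizer (QL (S : Subgroup G) V : Set G)) (C := centralizer (L : Set G))
    (D := XQ Q (V ⊔ zj (S : Subgroup G)) b) hZel hQz hxz hx1 (by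
      intro s hs hns
      refine mem_centralizer_iff.2 fun l hl => ?_
      have hl1 : l ∈ cj 1 L := by rwa [cj_one]
      refine h.apart (h.QP hs) (one_mem P) hd hd1 (by rwa [cj_one]) (h.commQ hs hd hL) (fun h1 =>
        hns ⟨hs, mem_normalizer_iff_cj.2 (by rw [← h1, cj_one])⟩) hb.mem _ (conj_mem_cj hx) l hl1)
    (fun s hs => le_iSup (fun s : Q => cj (s : G) (XX (V ⊔ zj (S : Subgroup G)) b)) ⟨s, hs⟩
      (conj_mem_cj hx))
  have hyE : y ∈ E := h.CE y hy hyQ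
  exact ⟨y, mem_inf.2 ⟨hyE, hyD⟩, hyx⟩

/-- `E = E_b C_E(L)` -/
theorem EB_split {b : G} (hb : Good (S : Subgroup G) Q V b) {e : G} (he : e ∈ E) :
    ∃ u ∈ EB E Q (V ⊔ zj (S : Subgroup G)) b, ∃ c ∈ E, (∀ l ∈ L, l * c = c * l) ∧ e = u * c := by
  set X := XX (V ⊔ zj (S : Subgroup G)) b with hX
  have hZel : IsElementaryAbelian 2 (zj (S : Subgroup G)) := by
    rw [← ChoiceBase.zc_bau]
    exact ZN.isElementaryAbelian_zc _
  have hzz : ∀ a ∈ zj (S : Subgroup G), ∀ c ∈ zj (S : Subgroup G), a * c = c * a :=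
    fun a ha c hc => elem_comm hZel a ha c hc
  obtain ⟨d, hd, hd1, hL⟩ := h.nK
  obtain ⟨x, hx, c, hc, hlc, e1⟩ := split_XX h.k hb.mem hb.not (h.EZ he)
  have hxz : x ∈ zj (S : Subgroup G) := XB.XX_le_zj h.k hb.mem hx
  -- `x` is centralised by `N_Q(C_B(V))`
  have hx1 : ∀ s ∈ Q ⊓ normalizer (QL (S : Subgroup G) V : Set G), s * x = x * s := by
    rintro s ⟨hs, hsn⟩
    have hsn' := mem_normalizer_iff_cj.1 hsn
    have h1 : s * x * s⁻¹ ∈ X := by
      have h2 := conj_mem_cj (g := s) hx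
      rwa [h.cj_XX_eq hb hs hsn'] at h2
    have h2 : s * c * s⁻¹ ∈ zj (S : Subgroup G) := by
      have h3 := conj_mem_cj (g := s) hc
      rwa [h.cj_zj (h.QP hs)] at h3
    have h3 := h.nrm s hs hsn c hc hlc
    have h4 : s * e * s⁻¹ = e := by rw [h.QE s hs e he]; group
    have h5 : x⁻¹ * (s * x * s⁻¹) = c * (s * c * s⁻¹)⁻¹ := by
      rw [e1] at h4
      have h6 : s * (x * c) * s⁻¹ = (s * x * s⁻¹) * (s * c * s⁻¹) := by group
      rw [h6] at h4
      calc x⁻¹ * (s * x * s⁻¹) = x⁻¹ * ((s * x * s⁻¹) * (s * c * s⁻¹)) * (s * c * s⁻¹)⁻¹ := by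
            group
        _ = x⁻¹ * (x * c) * (s * c * s⁻¹)⁻¹ := by rw [h4]
        _ = _ := by group
    have h6 : x⁻¹ * (s * x * s⁻¹) = 1 := by
      refine XB.XX_disj h.k hb.mem (mul_mem (inv_mem hx) h1) fun l hl => ?_
      rw [h5]
      have h7 : Commute l (c * (s * c * s⁻¹)⁻¹) :=
        (show Commute l c from hlc l hl).mul_right
          (show Commute l (s * c * s⁻¹) from h3 l hl).inv_right
      exact h7.eq
    have h7 : s * x * s⁻¹ = x := by
      calc s * x * s⁻¹ = x * (x⁻¹ * (s * x * s⁻¹)) := by group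
        _ = x := by rw [h6, mul_one]
    calc s * x = (s * x * s⁻¹) * s := by group
      _ = x * s := by rw [h7]
  obtain ⟨y, hy, hyx⟩ := h.norm hb hx hx1
  have hyE : y ∈ E := (mem_inf.1 hy).1
  refine ⟨y, hy, y⁻¹ * e, mul_mem (inv_mem hyE) he, fun l hl => ?_, by group⟩
  have h1 : y⁻¹ * e = (y * x⁻¹)⁻¹ * (x⁻¹ * e) := by
    have h2 : y⁻¹ * x = x * y⁻¹ := hzz _ (inv_mem (h.EZ hyE)) _ hxz
    calc y⁻¹ * e = (y⁻¹ * x) * (x⁻¹ * e) := by group
      _ = (x * y⁻¹) * (x⁻¹ * e) := by rw [h2]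
      _ = _ := by group
  have h3 : x⁻¹ * e = c := by rw [e1]; group
  rw [h1, h3]
  have h4 : Commute l (y * x⁻¹) := mem_centralizer_iff.1 hyx l hl
  exact (h4.inv_right.mul_right (show Commute l c from hlc l hl)).eq

/-- `E_b ≠ 1` -/
theorem EB_ne {b : G} (hb : Good (S : Subgroup G) Q V b) :
    ∃ e ∈ EB E Q (V ⊔ zj (S : Subgroup G)) b, e ≠ 1 := by
  set X := XX (V ⊔ zj (S : Subgroup G)) b with hX
  set Q1 := Q ⊓ normalizer (QL (S : Subgroup G) V : Set G) with hQ1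
  have hX2 : IsPGroup 2 X := (S.isPGroup'.to_le (ChoiceBase.bau_le _)).to_le
    ((XB.XX_le_zj h.k hb.mem).trans fun z hz => by
      rw [← ChoiceBase.zc_bau] at hz
      exact (ChoiceBase.mem_zc.1 hz).1)
  have hQX : Q1 ≤ normalizer (X : Set G) := fun s hs =>
    mem_normalizer_iff_cj.2 (h.cj_XX_eq hb hs.1 (mem_normalizer_iff_cj.1 hs.2))
  have hne : ¬ X ≤ (⊥ : Subgroup G) := by
    intro hle
    obtain ⟨v, hv, hvn⟩ : ∃ v ∈ V, b * v ≠ v * b := by
      by_contra hcon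
      push Not at hcon
      exact hb.not (mem_QL.2 ⟨hb.mem, hcon⟩)
    have h1 := hle (mem_XX_of (b := b) (mem_sup_left (T := zj (S : Subgroup G)) hv))
    exact hvn (comm_iff.2 (mem_bot.1 h1))
  obtain ⟨x, hx, hx1, hxs⟩ := NO3b.FPB.Main.exists_fixed_coset (P := (⊥ : Subgroup G))
    (IsPGroup.to_sup_of_normal_left' hX2 (h.Q2.to_le inf_le_left) hQX) le_sup_left
    (sup_le Subgroup.le_normalizer hQX)
    (by rw [normalizer_eq_top (H := (⊥ : Subgroup G))]; exact le_top) bot_le hne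
  have hx2 : ∀ s ∈ Q1, s * x = x * s := by
    intro s hs
    have h1 : x⁻¹ * (s * x * s⁻¹) = 1 := mem_bot.1 (hxs s (mem_sup_right hs))
    calc s * x = x * (x⁻¹ * (s * x * s⁻¹)) * s := by group
      _ = x * s := by rw [h1, mul_one]
  obtain ⟨y, hy, hyx⟩ := h.norm hb hx hx2
  refine ⟨y, hy, fun hy1 => hx1 ?_⟩
  rw [hy1, one_mul] at hyx
  rw [mem_bot]
  refine XB.XX_disj h.k hb.mem hx fun l hl => ?_
  have h2 : Commute l x⁻¹ := mem_centralizer_iff.1 hyx l hl
  exact (Commute.inv_right_iff.1 h2).eq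

/-- `P_L^y ≠ P_L^s` for all `s ∈ Q`: then `E_b ≤ C(L^y)`. -/
theorem apartQ {y d b : G} (hy : y ∈ P) (hd : d ∈ E) (hd1 : d ≠ 1) (hL : ∀ l ∈ L, l * d = d * l)
    (hL' : ∀ l ∈ cj y L, l * d = d * l)
    (hne : ∀ s ∈ Q, cj y (QL (S : Subgroup G) V) ≠ cj s (QL (S : Subgroup G) V))
    (hb : b ∈ bau (S : Subgroup G)) :
    ∀ e ∈ EB E Q (V ⊔ zj (S : Subgroup G)) b, ∀ l ∈ cj y L, l * e = e * l := by
  intro e he l hl
  have h1 : XQ Q (V ⊔ zj (S : Subgroup G)) b ≤ centralizer (cj y L : Set G) := by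
    refine iSup_le fun s x hx => mem_centralizer_iff.2 fun l hl => ?_
    exact h.apart (h.QP s.2) hy hd hd1 hL' (h.commQ s.2 hd hL) (hne s s.2) hb x hx l hl
  exact mem_centralizer_iff.1 (h1 (mem_inf.1 he).2) l hl

/-- Equivariance. -/
theorem cj_EB {y b : G} (hy : y ∈ P)
    (hW : cj y (V ⊔ zj (S : Subgroup G)) = V ⊔ zj (S : Subgroup G)) :
    cj y (EB E Q (V ⊔ zj (S : Subgroup G)) b) =
      EB E Q (V ⊔ zj (S : Subgroup G)) (y * b * y⁻¹) := by
  unfold EB XQ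
  rw [cj_inf, h.cj_E hy, cj_iSup]
  congr 1
  refine le_antisymm (iSup_le fun s => ?_) (iSup_le fun s => ?_)
  · have hs : y * (s : G) * y⁻¹ ∈ Q := conj_mem_of_norm h.PQ hy s.2
    refine le_trans (le_of_eq ?_) (le_iSup (fun s : Q => cj (s : G)
      (XX (V ⊔ zj (S : Subgroup G)) (y * b * y⁻¹))) ⟨_, hs⟩)
    change cj y (cj (s : G) (XX (V ⊔ zj (S : Subgroup G)) b)) =
      cj (y * (s : G) * y⁻¹) (XX (V ⊔ zj (S : Subgroup G)) (y * b * y⁻¹))
    have h1 := cj_XX y (V ⊔ zj (S : Subgroup G)) b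
    rw [hW] at h1
    rw [← h1, cj_cj, cj_cj]
    congr 1
    group
  · have hs : y⁻¹ * (s : G) * y ∈ Q := conj_mem_of_norm' h.PQ hy s.2
    refine le_trans (le_of_eq ?_) (le_iSup (fun s : Q => cj y (cj (s : G)
      (XX (V ⊔ zj (S : Subgroup G)) b))) ⟨_, hs⟩)
    change cj (s : G) (XX (V ⊔ zj (S : Subgroup G)) (y * b * y⁻¹)) =
      cj y (cj (y⁻¹ * (s : G) * y) (XX (V ⊔ zj (S : Subgroup G)) b))
    have h1 := cj_XX y (V ⊔ zj (S : Subgroup G)) b
    rw [hW] at h1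
    rw [← h1, cj_cj, cj_cj]
    congr 1
    group

/-- `E_b` depends only on the coset. -/
theorem EB_coset {b p : G} (hb : b ∈ bau (S : Subgroup G)) (hp : p ∈ QL (S : Subgroup G) V) :
    EB E Q (V ⊔ zj (S : Subgroup G)) (b * p) = EB E Q (V ⊔ zj (S : Subgroup G)) b := by
  unfold EB XQ
  rw [XX_coset h.k hb hp]

/-- Conjugates of good elements are good. -/
theorem good_conj {y b : G} (hb : Good (S : Subgroup G) Q V b) (hy : y ∈ P)
    (hyn : y ∈ normalizer (QL (S : Subgroup G) V : Set G)) :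
    Good (S : Subgroup G) Q V (y * b * y⁻¹) where
  mem := h.conj_bau hy hb.mem
  not := fun h1 => hb.not ((mem_normalizer_iff.1 hyn b).2 h1)
  fix := by
    intro s hs hsn
    have h1 := hb.fix (y⁻¹ * s * y) (conj_mem_of_norm' h.PQ hy hs)
      (mul_mem (mul_mem (inv_mem hyn) hsn) hyn)
    have h2 := (mem_normalizer_iff.1 hyn _).1 h1
    have e : y * (b⁻¹ * (y⁻¹ * s * y * b * (y⁻¹ * s * y)⁻¹)) * y⁻¹ =
        (y * b * y⁻¹)⁻¹ * (s * (y * b * y⁻¹) * s⁻¹) := by group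
    rwa [e] at h2

end Ctx

/-- A 2-group normalising `P < B` fixes a coset: existence of good elements. -/
theorem exists_good [Finite G] (k : PB (S : Subgroup G) L V) {R : Subgroup G} (h2 : IsPGroup 2 R)
    (hRB : R ≤ normalizer (bau (S : Subgroup G) : Set G))
    (hRP : R ≤ normalizer (QL (S : Subgroup G) V : Set G)) :
    ∃ b ∈ bau (S : Subgroup G), b ∉ QL (S : Subgroup G) V ∧
      ∀ s ∈ R, b⁻¹ * (s * b * s⁻¹) ∈ QL (S : Subgroup G) V := by
  have hB2 : IsPGroup 2 (bau (S : Subgroup G)) := S.isPGroup'.to_le (ChoiceBase.bau_le _)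
  have hBP : bau (S : Subgroup G) ≤ normalizer (QL (S : Subgroup G) V : Set G) :=
    k.top.BL.trans k.top.LP
  have h3 : IsPGroup 2 (bau (S : Subgroup G) ⊔ R : Subgroup G) :=
    IsPGroup.to_sup_of_normal_left' hB2 h2 hRB
  obtain ⟨A, hA, hAP⟩ := k.top.off
  have hne : ¬ bau (S : Subgroup G) ≤ QL (S : Subgroup G) V := fun h =>
    hAP (((le_jj hA).trans (ChoiceBase.jj_le_bau _)).trans h)
  obtain ⟨b, hb, hbP, hbS⟩ := NO3b.FPB.Main.exists_fixed_coset h3 le_sup_left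
    (sup_le Subgroup.le_normalizer hRB) (sup_le hBP hRP) Bk.PB hne
  exact ⟨b, hb, hbP, fun s hs => hbS s (mem_sup_right hs)⟩

end Cfsg.Agent.Omega.NSix.NoBlk.Core

end

section


/-!
# THEOREM BL* (OMEGA #18620, helper107), part 4: combinatorics of the even-subset module

`F₂ⁿ` modulo the all-one vector; subgroups `U`, `K` of `F₂ⁿ` over the all-one vector.

* `allSwap` (step 3): `U` has a nontrivial element, `U ∩ K = ⟨1⟩` and `U^(ab) ≤ K` for the transpositions outside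
  `C` imply `C = Sym(n)`;
* `chain` : a subgroup of `F₂^Ω'` invariant under a `2^m`-cycle `ρ` contains or is contained in the fixed points
  of `ρ^(2^(m-1))`;
* `noCycle` (step 4);
* `exists_pairing`, `mem_of_pairing` (step 5).
-/

set_option autoImplicit false

namespace Cfsg.Agent.Omega.NSix.NoBlk.Comb

open Equiv

/-! ### nilpotent maps with a kernel of order at most 2 -/

section Nil

variable {M : Type*} [AddCommGroup M] [Finite M] {f : M →+ M} {W : AddSubgroup M}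

theorem card_map_mul (f : M →+ M) (A : AddSubgroup M) :
    Nat.card (A.map f) * Nat.card ↥(A ⊓ f.ker) = Nat.card A := by
  have h1 := (f.comp A.subtype).ker.card_mul_index
  rw [AddSubgroup.index_ker] at h1
  have h2 : (f.comp A.subtype).range = A.map f := by
    ext x
    constructor
    · rintro ⟨a, rfl⟩
      exact ⟨a, a.2, rfl⟩
    · rintro ⟨a, ha, rfl⟩
      exact ⟨⟨a, ha⟩, rfl⟩
  have h3 : Nat.card (f.comp A.subtype).ker = Nat.card ↥(A ⊓ f.ker) := by
    refine Nat.card_congr ⟨fun x => ⟨(x : A), x.1.2, ?_⟩, fun x => ⟨⟨x, x.2.1⟩, ?_⟩, ?_, ?_⟩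
    · exact x.2
    · exact x.2.2
    · intro x; rfl
    · intro x; rfl
  rw [h2, h3, mul_comm] at h1
  exact h1

theorem card_ker_le (hk : ∀ x ∈ W, ∀ y ∈ W, f x = 0 → f y = 0 → x ≠ 0 → y ≠ 0 → x = y)
    {A : AddSubgroup M} (hA : A ≤ W) : Nat.card ↥(A ⊓ f.ker) ≤ 2 := by
  by_cases h : ∃ u ∈ A, f u = 0 ∧ u ≠ 0
  · obtain ⟨u, hu, hfu, hu0⟩ := h
    have h1 : ((A ⊓ f.ker : AddSubgroup M) : Set M) ⊆ {0, u} := by
      rintro x ⟨hx, hfx⟩
      by_cases hx0 : x = 0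
      · exact Or.inl hx0
      · exact Or.inr (hk x (hA hx) u (hA hu) hfx hfu hx0 hu0)
    have h2 := Set.ncard_le_ncard h1 (Set.toFinite _)
    have h3 : ({0, u} : Set M).ncard ≤ 2 := by
      rw [Set.ncard_pair (Ne.symm hu0)]
    rw [← Nat.card_coe_set_eq] at h2
    exact h2.trans h3
  · push Not at h
    have h1 : ((A ⊓ f.ker : AddSubgroup M) : Set M) ⊆ {0} := by
      rintro x ⟨hx, hfx⟩
      exact h x hx hfx
    have h2 := Set.ncard_le_ncard h1 (Set.toFinite _)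
    rw [← Nat.card_coe_set_eq, Set.ncard_singleton] at h2
    exact h2.trans one_le_two

omit [Finite M] in
theorem iter_mem {A : AddSubgroup M} (hA : ∀ a ∈ A, f a ∈ A) {a : M} (ha : a ∈ A) (j : ℕ) :
    f^[j] a ∈ A := by
  induction j with
  | zero => exact ha
  | succ j ih =>
    rw [Function.iterate_succ_apply']
    exact hA _ ih

omit [Finite M] in
/-- A nontrivial invariant subgroup meets the kernel nontrivially. -/
theorem exists_ker (hn : ∀ x ∈ W, ∃ j, f^[j] x = 0) {A : AddSubgroup M} (hAW : A ≤ W)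
    (hA : ∀ a ∈ A, f a ∈ A) {a : M} (ha : a ∈ A) (ha0 : a ≠ 0) : ∃ u ∈ A, f u = 0 ∧ u ≠ 0 := by
  classical
  have h1 := hn a (hAW ha)
  have h2 := Nat.find_spec h1
  have h3 : Nat.find h1 ≠ 0 := by
    intro h0
    rw [h0] at h2
    exact ha0 h2
  obtain ⟨i, hi⟩ := Nat.exists_eq_succ_of_ne_zero h3
  have h4 : f^[i] a ≠ 0 := Nat.find_min h1 (by omega)
  refine ⟨f^[i] a, iter_mem hA ha i, ?_, h4⟩
  rw [hi, Function.iterate_succ_apply'] at h2
  exact h2

theorem inv_ker (hW : ∀ x ∈ W, f x ∈ W)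
    (hk : ∀ x ∈ W, ∀ y ∈ W, f x = 0 → f y = 0 → x ≠ 0 → y ≠ 0 → x = y)
    (hn : ∀ x ∈ W, ∃ j, f^[j] x = 0) :
    ∀ (j : ℕ) (A : AddSubgroup M), A ≤ W → (∀ a ∈ A, f a ∈ A) → 2 ^ j ≤ Nat.card A →
      ∀ x ∈ W, f^[j] x = 0 → x ∈ A := by
  intro j
  induction j with
  | zero =>
    intro A _ _ _ x _ h0
    rw [Function.iterate_zero_apply] at h0
    rw [h0]
    exact A.zero_mem
  | succ j ih =>
    intro A hAW hA hc x hx hfx
    have h1 := card_map_mul f A
    have h2 := card_ker_le hk hAW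
    have h3 : 2 ^ j ≤ Nat.card (A.map f) := by
      have h4 : Nat.card A ≤ Nat.card (A.map f) * 2 := by
        rw [← h1]
        exact Nat.mul_le_mul_left _ h2
      rw [pow_succ] at hc
      omega
    have h5 : A.map f ≤ W := by
      rintro _ ⟨a, ha, rfl⟩
      exact hAW (hA a ha)
    have h6 : ∀ a ∈ A.map f, f a ∈ A.map f := by
      rintro _ ⟨a, ha, rfl⟩
      exact ⟨f a, hA a ha, rfl⟩
    have h7 := ih (A.map f) h5 h6 h3 (f x) (hW x hx) (by
      rw [← Function.iterate_succ_apply]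
      exact hfx)
    obtain ⟨a, ha, hfa⟩ := h7
    have h8 : f (x - a) = 0 := by rw [map_sub, hfa, sub_self]
    by_cases h9 : x - a = 0
    · rw [sub_eq_zero.1 h9]
      exact ha
    have h10 : ∃ a0 ∈ A, a0 ≠ 0 := by
      by_contra h
      push Not at h
      have h11 : A = ⊥ := by
        rw [eq_bot_iff]
        intro y hy
        exact h y hy
      rw [h11, AddSubgroup.card_bot] at hc
      have : 2 ≤ 2 ^ (j + 1) := by
        rw [pow_succ]
        have := Nat.one_le_two_pow (n := j)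
        omega
      omega
    obtain ⟨a0, ha0, ha00⟩ := h10
    obtain ⟨u, hu, hfu, hu0⟩ := exists_ker hn hAW hA ha0 ha00
    have h12 := hk (x - a) (W.sub_mem hx (hAW ha)) u (hAW hu) h8 hfu h9 hu0
    have h13 : x = u + a := by rw [← h12]; abel
    rw [h13]
    exact A.add_mem hu ha

theorem inv_small (hn : ∀ x ∈ W, ∃ j, f^[j] x = 0) :
    ∀ (j : ℕ) (A : AddSubgroup M), A ≤ W → (∀ a ∈ A, f a ∈ A) → Nat.card A < 2 ^ (j + 1) →
      ∀ a ∈ A, f^[j] a = 0 := by
  intro j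
  induction j with
  | zero =>
    intro A hAW hA hc a ha
    rw [Function.iterate_zero_apply]
    have h1 : Nat.card A = 1 := by
      have := Nat.card_pos (α := A)
      omega
    have h2 := AddSubgroup.card_eq_one.1 h1
    rw [h2] at ha
    exact ha
  | succ j ih =>
    intro A hAW hA hc a ha
    by_cases ha0 : a = 0
    · rw [ha0]
      exact iterate_map_zero f _
    obtain ⟨u, hu, hfu, hu0⟩ := exists_ker hn hAW hA ha ha0
    have h1 := card_map_mul f A
    have h2 : 2 ≤ Nat.card ↥(A ⊓ f.ker) := by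
      have h3 : Nat.card ↥(A ⊓ f.ker) ≠ 1 := by
        intro h4
        have h5 := AddSubgroup.card_eq_one.1 h4
        have h6 : u ∈ A ⊓ f.ker := ⟨hu, hfu⟩
        rw [h5] at h6
        exact hu0 h6
      have := Nat.card_pos (α := ↥(A ⊓ f.ker))
      omega
    have h3 : Nat.card (A.map f) < 2 ^ (j + 1) := by
      have h4 : Nat.card (A.map f) * 2 ≤ Nat.card A := by
        rw [← h1]
        exact Nat.mul_le_mul_left _ h2
      rw [pow_succ] at hc
      omega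
    have h7 := ih (A.map f) (by
      rintro _ ⟨a, ha, rfl⟩
      exact hAW (hA a ha)) (by
      rintro _ ⟨a, ha, rfl⟩
      exact ⟨f a, hA a ha, rfl⟩) h3 (f a) ⟨a, ha, rfl⟩
    rw [Function.iterate_succ_apply]
    exact h7

end Nil

/-! ### the cycle -/

section Cycle

variable {Ω : Type*} [DecidableEq Ω] [Fintype Ω]

omit [DecidableEq Ω] [Fintype Ω] in
theorem add_self (x : Ω → ZMod 2) : x + x = 0 := funext fun i => CharTwo.add_self_eq_zero (x i)

/-- The map `x ↦ x^ρ + x`. -/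
def nu (ρ : Perm Ω) : (Ω → ZMod 2) →+ (Ω → ZMod 2) where
  toFun x := x ∘ ρ + x
  map_zero' := by
    funext i
    simp
  map_add' x y := by
    funext i
    simp only [Pi.add_apply, Function.comp_apply]
    ring

omit [DecidableEq Ω] [Fintype Ω] in
theorem nu_apply (ρ : Perm Ω) (x : Ω → ZMod 2) : nu ρ x = x ∘ ρ + x := rfl

omit [DecidableEq Ω] [Fintype Ω] in
theorem nu_iter (ρ : Perm Ω) (t : ℕ) (x : Ω → ZMod 2) :
    (nu ρ)^[2 ^ t] x = x ∘ (ρ ^ (2 ^ t) : Perm Ω) + x := by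
  induction t generalizing x with
  | zero => simp [nu_apply]
  | succ t ih =>
    have h1 : 2 ^ (t + 1) = 2 ^ t + 2 ^ t := by ring
    rw [h1, Function.iterate_add_apply, ih, ih]
    funext i
    have h2 : (ρ ^ (2 ^ t + 2 ^ t)) i = (ρ ^ 2 ^ t) ((ρ ^ 2 ^ t) i) := by
      rw [pow_add, Perm.mul_apply]
    simp only [Pi.add_apply, Function.comp_apply]
    rw [h2]
    have h3 := CharTwo.add_self_eq_zero (x ((ρ ^ 2 ^ t) i))
    calc x ((ρ ^ 2 ^ t) ((ρ ^ 2 ^ t) i)) + x ((ρ ^ 2 ^ t) i) + (x ((ρ ^ 2 ^ t) i) + x i) =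
        x ((ρ ^ 2 ^ t) ((ρ ^ 2 ^ t) i)) + (x ((ρ ^ 2 ^ t) i) + x ((ρ ^ 2 ^ t) i)) + x i := by ring
      _ = _ := by rw [h3, add_zero]

/-- The functions vanishing at `o`. -/
def van (o : Ω) : AddSubgroup (Ω → ZMod 2) where
  carrier := {x | x o = 0}
  zero_mem' := rfl
  add_mem' {x y} hx hy := by
    change x o + y o = 0
    rw [show x o = 0 from hx, show y o = 0 from hy, add_zero]
  neg_mem' {x} hx := by
    change -x o = 0
    rw [show x o = 0 from hx, neg_zero]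

omit [DecidableEq Ω] [Fintype Ω] in
theorem mem_van {o : Ω} {x : Ω → ZMod 2} : x ∈ van o ↔ x o = 0 := Iff.rfl

theorem zmod_two (a : ZMod 2) : a = 0 ∨ a = 1 := by
  fin_cases a
  · exact Or.inl rfl
  · exact Or.inr rfl

/-- An invariant subgroup contains or is contained in the fixed points of the involution of the cycle. -/
theorem chain {m : ℕ} {ρ : Perm Ω} {o : Ω} (hρ : ρ.IsCycle) (ho : ρ.support = {o}ᶜ)
    (hc : ρ.support.card = 2 ^ (m + 1)) {A : AddSubgroup (Ω → ZMod 2)} (hA : A ≤ van o)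
    (hi : ∀ x ∈ A, x ∘ ρ ∈ A) :
    (∀ x, x o = 0 → x ∘ (ρ ^ 2 ^ m : Perm Ω) = x → x ∈ A) ∨
      ∀ x ∈ A, x ∘ (ρ ^ 2 ^ m : Perm Ω) = x := by
  have hoo : ρ o = o := by
    by_contra h
    have h1 := Perm.mem_support.2 h
    rw [ho] at h1
    simp at h1
  have hmv : ∀ i, i ≠ o → ρ i ≠ i := by
    intro i hi
    rw [← Perm.mem_support, ho]
    simpa using hi
  have h1 : ∀ x ∈ van o, nu ρ x ∈ van o := by
    intro x hx
    rw [mem_van] at hx ⊢
    rw [nu_apply, Pi.add_apply, Function.comp_apply, hoo, hx, add_zero]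
  have hcon : ∀ x ∈ van o, nu ρ x = 0 → x ≠ 0 → ∀ i, i ≠ o → x i = 1 := by
    intro x hx h0 hx0 i hi
    have h2 : x ∘ ρ = x := by
      have h3 : x ∘ ρ + x = 0 := h0
      calc x ∘ ρ = x ∘ ρ + (x + x) := by rw [add_self, add_zero]
        _ = (x ∘ ρ + x) + x := by rw [add_assoc]
        _ = x := by rw [h3, zero_add]
    have h3 : ∀ (t : ℕ) (j : Ω), x ((ρ ^ t) j) = x j := by
      intro t
      induction t with
      | zero => intro j; rfl
      | succ t ih =>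
        intro j
        rw [pow_succ, Perm.mul_apply, ih]
        exact congrFun h2 j
    have h4 : ∃ j, x j ≠ 0 := by
      by_contra h
      push Not at h
      exact hx0 (funext h)
    obtain ⟨j, hj⟩ := h4
    have hjo : j ≠ o := by
      rintro rfl
      exact hj hx
    obtain ⟨t, ht⟩ := hρ.exists_pow_eq (hmv j hjo) (hmv i hi)
    rw [← ht, h3]
    exact (zmod_two (x j)).resolve_left hj
  have h2 : ∀ x ∈ van o, ∀ y ∈ van o, nu ρ x = 0 → nu ρ y = 0 → x ≠ 0 → y ≠ 0 → x = y := by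
    intro x hx y hy hfx hfy hx0 hy0
    funext i
    by_cases hi : i = o
    · rw [hi, mem_van.1 hx, mem_van.1 hy]
    · rw [hcon x hx hfx hx0 i hi, hcon y hy hfy hy0 i hi]
  have h3 : ∀ x ∈ van o, ∃ j, (nu ρ)^[j] x = 0 := by
    intro x _
    refine ⟨2 ^ (m + 1), ?_⟩
    rw [nu_iter]
    have h4 : ρ ^ 2 ^ (m + 1) = 1 := by
      rw [← hc, ← hρ.orderOf]
      exact pow_orderOf_eq_one _
    rw [h4]
    exact add_self x
  have h4 : ∀ a ∈ A, nu ρ a ∈ A := fun a ha => A.add_mem (hi a ha) ha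
  have h5 : ∀ x : Ω → ZMod 2, (nu ρ)^[2 ^ m] x = 0 ↔ x ∘ (ρ ^ 2 ^ m : Perm Ω) = x := by
    intro x
    rw [nu_iter]
    constructor
    · intro h6
      calc x ∘ (ρ ^ 2 ^ m : Perm Ω) = x ∘ (ρ ^ 2 ^ m : Perm Ω) + (x + x) := by
            rw [add_self, add_zero]
        _ = (x ∘ (ρ ^ 2 ^ m : Perm Ω) + x) + x := by rw [add_assoc]
        _ = x := by rw [h6, zero_add]
    · intro h6
      rw [h6, add_self]
  rcases le_or_gt (2 ^ 2 ^ m) (Nat.card A) with h6 | h6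
  · exact Or.inl fun x hx hxx => inv_ker h1 h2 h3 (2 ^ m) A hA h4 h6 x hx ((h5 x).2 hxx)
  · refine Or.inr fun x hx => (h5 x).1 (inv_small h3 (2 ^ m) A hA h4 (h6.trans ?_) x hx)
    exact Nat.pow_lt_pow_right (by norm_num) (Nat.lt_succ_self _)

/-- A `θ`-invariant set of every even size. -/
theorem exists_inv_set {θ : Perm Ω} {o : Ω} (h2 : ∀ i, θ (θ i) = i) (ho : θ o = o)
    (hf : ∀ i, i ≠ o → θ i ≠ i) :
    ∀ k, 2 * k < Fintype.card Ω → ∃ D : Finset Ω, o ∉ D ∧ D.card = 2 * k ∧ ∀ i ∈ D, θ i ∈ D := by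
  intro k
  induction k with
  | zero => exact fun _ => ⟨∅, by simp, by simp, by simp⟩
  | succ k ih =>
    intro hk
    obtain ⟨D, hoD, hD, hi⟩ := ih (by omega)
    have h3 : ∃ a, a ∉ insert o D := by
      by_contra h
      push Not at h
      have h4 : (Finset.univ : Finset Ω).card ≤ (insert o D).card :=
        Finset.card_le_card fun a _ => h a
      have h5 := Finset.card_insert_le o D
      rw [Finset.card_univ] at h4
      omega
    obtain ⟨a, ha⟩ := h3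
    rw [Finset.mem_insert, not_or] at ha
    have hθa : θ a ∉ D := by
      intro h4
      have h5 := hi _ h4
      rw [h2] at h5
      exact ha.2 h5
    have hne : θ a ≠ a := hf a ha.1
    refine ⟨insert a (insert (θ a) D), ?_, ?_, ?_⟩
    · rw [Finset.mem_insert, Finset.mem_insert, not_or, not_or]
      refine ⟨fun h => ha.1 h.symm, fun h => ha.1 ?_, hoD⟩
      have h4 : θ (θ a) = θ o := by rw [← h]
      rw [h2, ho] at h4
      exact h4
    · rw [Finset.card_insert_of_notMem, Finset.card_insert_of_notMem hθa, hD]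
      · ring
      · rw [Finset.mem_insert, not_or]
        exact ⟨hne.symm, ha.2⟩
    · intro i hiD
      rw [Finset.mem_insert, Finset.mem_insert] at hiD ⊢
      rcases hiD with rfl | rfl | hiD
      · exact Or.inr (Or.inl rfl)
      · rw [h2]
        exact Or.inl rfl
      · exact Or.inr (Or.inr (hi i hiD))

/-- The weight. -/
theorem exists_comp {x y : Ω → ZMod 2}
    (h : (Finset.univ.filter fun i => x i = 1).card = (Finset.univ.filter fun i => y i = 1).card) :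
    ∃ σ : Perm Ω, y = x ∘ σ := by
  have h1 : Fintype.card {i // y i = 1} = Fintype.card {i // x i = 1} := by
    rw [Fintype.card_subtype, Fintype.card_subtype, h]
  obtain ⟨e⟩ := Fintype.card_eq.1 h1
  refine ⟨e.extendSubtype, funext fun i => ?_⟩
  rw [Function.comp_apply]
  by_cases hi : y i = 1
  · have h2 := e.extendSubtype_mem i hi
    rw [hi]
    exact h2.symm
  · have h2 := e.extendSubtype_not_mem i hi
    rw [(zmod_two (y i)).resolve_right hi, (zmod_two (x _)).resolve_right h2]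

theorem sum_eq_card (x : Ω → ZMod 2) :
    ∑ i, x i = ((Finset.univ.filter fun i => x i = 1).card : ZMod 2) := by
  rw [Finset.card_filter, Nat.cast_sum]
  refine Finset.sum_congr rfl fun i _ => ?_
  rcases zmod_two (x i) with h | h
  · rw [h]; simp
  · rw [h]; simp

theorem even_weight {x : Ω → ZMod 2} (h : ∑ i, x i = 0) :
    ∃ k, (Finset.univ.filter fun i => x i = 1).card = 2 * k := by
  rw [sum_eq_card, ZMod.natCast_eq_zero_iff_even] at h
  obtain ⟨k, hk⟩ := h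
  exact ⟨k, by rw [hk]; ring⟩

/-- `x` or `x + 1` has even weight. -/
theorem exists_even (hn : Odd (Fintype.card Ω)) {A : AddSubgroup (Ω → ZMod 2)} (h1 : 1 ∈ A)
    {x : Ω → ZMod 2} (hx : x ∈ A) (hx0 : x ≠ 0) (hx1 : x ≠ 1) :
    ∃ y ∈ A, y ≠ 0 ∧ y ≠ 1 ∧ ∑ i, y i = 0 ∧ (y = x ∨ y = x + 1) := by
  rcases zmod_two (∑ i, x i) with h | h
  · exact ⟨x, hx, hx0, hx1, h, Or.inl rfl⟩
  · refine ⟨x + 1, A.add_mem hx h1, ?_, ?_, ?_, Or.inr rfl⟩
    · intro h2
      apply hx1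
      calc x = x + (1 + 1) := by rw [add_self, add_zero]
        _ = (x + 1) + 1 := by rw [add_assoc]
        _ = 1 := by rw [h2, zero_add]
    · intro h2
      exact hx0 (by simpa using h2)
    · have h3 : ∑ i, (x + 1) i = ∑ i, x i + (Fintype.card Ω : ZMod 2) := by
        simp [Finset.sum_add_distrib]
      rw [h3, h, ZMod.natCast_eq_one_iff_odd.2 hn]
      decide

/-- A proper subgroup is orthogonal to a nonzero vector. -/
theorem exists_orth {K : AddSubgroup (Ω → ZMod 2)} (hK : K ≠ ⊤) :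
    ∃ y : Ω → ZMod 2, y ≠ 0 ∧ ∀ x ∈ K, ∑ i, x i * y i = 0 := by
  set K' : Submodule (ZMod 2) (Ω → ZMod 2) := AddSubgroup.toZModSubmodule 2 K with hK'
  have h1 : K' < ⊤ := by
    rw [lt_top_iff_ne_top]
    intro h
    apply hK
    rw [eq_top_iff]
    intro x _
    have h2 : x ∈ K' := by rw [h]; trivial
    exact h2
  obtain ⟨f, hf, hfK⟩ := Submodule.exists_le_ker_of_lt_top K' h1
  refine ⟨fun i => f (Pi.single i 1), fun h0 => hf ?_, fun x hx => ?_⟩
  · refine LinearMap.pi_ext fun i a => ?_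
    have h2 : (Pi.single i a : Ω → ZMod 2) = a • (Pi.single i 1 : Ω → ZMod 2) := by
      rw [← Pi.single_smul, smul_eq_mul, mul_one]
    rw [h2, map_smul, LinearMap.zero_apply, congrFun h0 i]
    simp
  · have h2 : f x = ∑ i, x i * f (Pi.single i 1) := by
      conv_lhs => rw [← Finset.univ_sum_single x, map_sum]
      refine Finset.sum_congr rfl fun i _ => ?_
      have h3 : (Pi.single i (x i) : Ω → ZMod 2) = x i • (Pi.single i 1 : Ω → ZMod 2) := by
        rw [← Pi.single_smul, smul_eq_mul, mul_one]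
      rw [h3, map_smul, smul_eq_mul]
    rw [← h2]
    exact hfK hx

/-- Step (4) of THEOREM BL*. -/
theorem noCycle {m : ℕ} (hcard : Fintype.card Ω = 2 ^ (m + 1) + 1) {ρ : Perm Ω}
    (hρ : ρ.IsCycle) (hc : ρ.support.card = 2 ^ (m + 1)) {U K : AddSubgroup (Ω → ZMod 2)}
    (hU1 : 1 ∈ U) (hK1 : 1 ∈ K) (hK : K ≠ ⊤) {d : Ω → ZMod 2} (hd : d ∈ K) (hd0 : d ≠ 0)
    (hd1 : d ≠ 1) (hi : ∀ x ∈ U, x ∘ ρ ∈ U)
    (hdis : ∀ (σ : Perm Ω), ∀ x ∈ U, x ∘ σ ∈ K → x = 0 ∨ x = 1)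
    (hsp : ∀ (σ : Perm Ω) (x : Ω → ZMod 2), ∃ u ∈ U, ∃ c ∈ K, x = u + c ∘ σ) : False := by
  have hodd : Odd (Fintype.card Ω) := by
    rw [hcard]
    exact Even.add_one (Nat.even_pow.2 ⟨even_two, by omega⟩)
  -- the fixed point
  have h1 : (ρ.supportᶜ).card = 1 := by
    rw [Finset.card_compl, hc, hcard]
    omega
  obtain ⟨o, ho⟩ := Finset.card_eq_one.1 h1
  have ho' : ρ.support = {o}ᶜ := by rw [← ho, compl_compl]
  set θ : Perm Ω := ρ ^ 2 ^ m with hθ
  have h2 : ∀ i, θ (θ i) = i := by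
    intro i
    rw [hθ, ← Perm.mul_apply, ← pow_add]
    have h3 : 2 ^ m + 2 ^ m = 2 ^ (m + 1) := by ring
    rw [h3, ← hc, ← hρ.orderOf, pow_orderOf_eq_one]
    rfl
  have hρo : ρ o = o := by
    by_contra h
    have h1 := Perm.mem_support.2 h
    rw [ho'] at h1
    simp at h1
  have hθo : θ o = o := by
    rw [hθ]
    exact Perm.pow_apply_eq_self_of_apply_eq_self hρo _
  have hf : ∀ i, i ≠ o → θ i ≠ i := by
    intro i hio h3
    have h4 : ρ i ≠ i := by
      rw [← Perm.mem_support, ho']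
      simpa using hio
    have h5 : ρ ^ 2 ^ m = 1 := hρ.pow_eq_one_iff.2 ⟨i, h4, h3⟩
    have h6 := orderOf_dvd_of_pow_eq_one h5
    rw [hρ.orderOf, hc] at h6
    have h7 := Nat.le_of_dvd (by positivity) h6
    rw [pow_succ] at h7
    have := Nat.one_le_two_pow (n := m)
    omega
  -- a `θ`-invariant function of a given even weight
  have h3 : ∀ y : Ω → ZMod 2, ∑ i, y i = 0 →
      ∃ σ : Perm Ω, (y ∘ σ) o = 0 ∧ (y ∘ σ) ∘ θ = y ∘ σ := by
    intro y hy
    obtain ⟨k, hk⟩ := even_weight hy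
    have h4 : 2 * k < Fintype.card Ω := by
      have h5 : 2 * k ≤ Fintype.card Ω := by
        rw [← hk]
        exact Finset.card_le_univ _
      rcases h5.lt_or_eq with h6 | h6
      · exact h6
      · exfalso
        rw [← h6] at hodd
        exact (Nat.not_odd_iff_even.2 ⟨k, by ring⟩) hodd
    obtain ⟨D, hoD, hD, hDi⟩ := exists_inv_set h2 hθo hf k h4
    obtain ⟨σ, hσ⟩ := exists_comp (x := y) (y := fun i => if i ∈ D then 1 else 0) (by
      rw [hk, ← hD]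
      congr 1
      ext i
      simp)
    refine ⟨σ, ?_, ?_⟩
    · rw [← hσ]
      simp [hoD]
    · rw [← hσ]
      funext i
      have h5 : θ i ∈ D ↔ i ∈ D := ⟨fun h6 => by
        have h7 := hDi _ h6
        rwa [h2] at h7, hDi i⟩
      simp only [Function.comp_apply, h5]
  -- the subgroup of the functions of `U` vanishing at `o`
  rcases chain hρ ho' hc (A := U ⊓ van o) inf_le_right (fun x hx => ⟨hi x hx.1, by
    change (x ∘ ρ) o = 0
    rw [Function.comp_apply, hρo]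
    exact hx.2⟩) with h4 | h4
  · obtain ⟨y, hy, hy0, hy1, hys, -⟩ := exists_even hodd hK1 hd hd0 hd1
    obtain ⟨σ, hσ1, hσ2⟩ := h3 y hys
    have h5 := (h4 (y ∘ σ) hσ1 hσ2).1
    have h6 : (y ∘ σ) ∘ (σ⁻¹ : Perm Ω) = y := by
      funext i
      simp
    rcases hdis σ⁻¹ (y ∘ σ) h5 (by rw [h6]; exact hy) with h7 | h7
    · apply hy0
      rw [← h6, h7]
      rfl
    · apply hy1
      rw [← h6, h7]
      rfl
  · obtain ⟨y, hy0, hy⟩ := exists_orth hK
    have hys : ∑ i, y i = 0 := by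
      have h5 := hy 1 hK1
      simpa using h5
    obtain ⟨σ, hσ1, hσ2⟩ := h3 y hys
    have hUθ : ∀ x ∈ U, x ∘ θ = x := by
      intro x hx
      rcases zmod_two (x o) with h5 | h5
      · exact h4 x ⟨hx, h5⟩
      · have h6 := h4 (x + 1) ⟨U.add_mem hx hU1, by
          change x o + 1 = 0
          rw [h5]
          decide⟩
        funext i
        have h7 := congrFun h6 i
        simpa using h7
    have hUy : ∀ x ∈ U, ∑ i, x i * (y ∘ σ) i = 0 := by
      intro x hx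
      refine Finset.sum_involution (fun i _ => θ i) ?_ ?_ (fun _ _ => Finset.mem_univ _) ?_
      · intro i _
        have h5 : x (θ i) = x i := congrFun (hUθ x hx) i
        have h6 : (y ∘ σ) (θ i) = (y ∘ σ) i := congrFun hσ2 i
        rw [h5, h6]
        exact CharTwo.add_self_eq_zero _
      · intro i _ h5
        apply hf
        rintro rfl
        apply h5
        rw [hσ1, mul_zero]
      · intro i _
        exact h2 i
    have hKy : ∀ c ∈ K, ∑ i, (c ∘ σ) i * (y ∘ σ) i = 0 := by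
      intro c hc
      rw [← hy c hc]
      exact Equiv.sum_comp σ (fun i => c i * y i)
    have h5 : y ∘ σ = 0 := by
      funext j
      obtain ⟨u, hu, c, hc, h6⟩ := hsp σ (Pi.single j 1)
      have h7 : ∑ i, (Pi.single j 1 : Ω → ZMod 2) i * (y ∘ σ) i = 0 := by
        rw [h6]
        simp only [Pi.add_apply, add_mul, Finset.sum_add_distrib]
        rw [hUy u hu, hKy c hc, add_zero]
      rw [Finset.sum_eq_single j] at h7
      · simpa using h7
      · intro i _ hij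
        rw [Pi.single_eq_of_ne hij, zero_mul]
      · intro h8
        exact absurd (Finset.mem_univ j) h8
    apply hy0
    have h6 : (y ∘ σ) ∘ (σ⁻¹ : Perm Ω) = y := by
      funext i
      simp
    rw [← h6, h5]
    rfl

/-- A full cycle on `Ω - o`. -/
theorem exists_cycle {m : ℕ} (hcard : Fintype.card Ω = 2 ^ (m + 1) + 1) :
    ∃ ρ : Perm Ω, ρ.IsCycle ∧ ρ.support.card = 2 ^ (m + 1) := by
  have h1 : (2 : ℕ) ≤ 2 ^ (m + 1) := by
    rw [pow_succ]
    have := Nat.one_le_two_pow (n := m)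
    omega
  obtain ⟨g, hg⟩ := (Perm.exists_with_cycleType_iff (α := Ω) (m := {2 ^ (m + 1)})).2
    ⟨by rw [Multiset.sum_singleton, hcard]; omega, by simpa using h1⟩
  refine ⟨g, ?_, ?_⟩
  · rw [← Perm.card_cycleType_eq_one, hg, Multiset.card_singleton]
  · rw [← Perm.sum_cycleType, hg, Multiset.sum_singleton]

/-! ### steps (3) and (5) -/

theorem single_swap {a b : Ω} (x : Ω → ZMod 2) (h : x a ≠ x b) :
    x ∘ Equiv.swap a b = x + (Pi.single a 1 + Pi.single b 1) := by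
  have hab : a ≠ b := fun h1 => h (by rw [h1])
  have h1 : x b = x a + 1 := by
    rcases zmod_two (x a) with h2 | h2 <;> rcases zmod_two (x b) with h3 | h3
    · exact absurd (h2.trans h3.symm) h
    · rw [h2, h3]; decide
    · rw [h2, h3]; decide
    · exact absurd (h2.trans h3.symm) h
  have h2 : x a = x b + 1 := by
    rw [h1, add_assoc]
    have : (1 : ZMod 2) + 1 = 0 := by decide
    rw [this, add_zero]
  funext i
  simp only [Function.comp_apply, Pi.add_apply]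
  by_cases hia : i = a
  · subst hia
    rw [Equiv.swap_apply_left, Pi.single_eq_same, Pi.single_eq_of_ne hab, h1, add_zero]
  · by_cases hib : i = b
    · subst hib
      rw [Equiv.swap_apply_right, Pi.single_eq_same, Pi.single_eq_of_ne hia, h2, zero_add]
    · rw [Equiv.swap_apply_of_ne_of_ne hia hib, Pi.single_eq_of_ne hia, Pi.single_eq_of_ne hib,
        add_zero, add_zero]

omit [Fintype Ω] in
theorem comp_swap_eq {a b : Ω} (x : Ω → ZMod 2) (h : x a = x b) : x ∘ Equiv.swap a b = x := by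
  funext i
  simp only [Function.comp_apply]
  by_cases hia : i = a
  · rw [hia, Equiv.swap_apply_left, h]
  · by_cases hib : i = b
    · rw [hib, Equiv.swap_apply_right, h]
    · rw [Equiv.swap_apply_of_ne_of_ne hia hib]

/-- Step (3) of THEOREM BL*. -/
theorem allSwap (hodd : Odd (Fintype.card Ω)) {C : Subgroup (Perm Ω)}
    {U K : AddSubgroup (Ω → ZMod 2)} (hU1 : 1 ∈ U) {u : Ω → ZMod 2} (hu : u ∈ U) (hu0 : u ≠ 0)
    (hu1 : u ≠ 1) (hdis : ∀ x ∈ U, x ∈ K → x = 0 ∨ x = 1)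
    (hh : ∀ a b, Equiv.swap a b ∉ C → ∀ x ∈ U, x ∘ Equiv.swap a b ∈ K) : C = ⊤ := by
  obtain ⟨x, hx, hx0, hx1, hs, -⟩ := exists_even hodd hU1 hu hu0 hu1
  have hxK : x ∉ K := fun h => (hdis x hx h).elim hx0 hx1
  have key : ∀ a b, Equiv.swap a b ∉ C →
      x a ≠ x b ∧ x + (Pi.single a 1 + Pi.single b 1) ∈ K := by
    intro a b h
    have h1 := hh a b h x hx
    have h2 : x a ≠ x b := by
      intro h3
      rw [comp_swap_eq x h3] at h1
      exact hxK h1
    rw [single_swap x h2] at h1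
    exact ⟨h2, h1⟩
  by_contra hC
  -- a transposition outside `C`
  have h3 : ∃ a b, Equiv.swap a b ∉ C := by
    by_contra h
    push Not at h
    apply hC
    rw [eq_top_iff, ← Perm.closure_isSwap, Subgroup.closure_le]
    rintro σ ⟨a, b, -, rfl⟩
    exact h a b
  have h4 : ∃ a b, Equiv.swap a b ∉ C ∧ x a = 1 ∧ x b = 0 := by
    obtain ⟨a, b, h⟩ := h3
    have h5 := (key a b h).1
    rcases zmod_two (x a) with h6 | h6 <;> rcases zmod_two (x b) with h7 | h7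
    · exact absurd (h6.trans h7.symm) h5
    · exact ⟨b, a, by rwa [Equiv.swap_comm], h7, h6⟩
    · exact ⟨a, b, h, h6, h7⟩
    · exact absurd (h6.trans h7.symm) h5
  obtain ⟨a, b, hab, ha, hb⟩ := h4
  have hne : a ≠ b := by
    rintro rfl
    rw [ha] at hb
    exact absurd hb (by decide)
  have h5 : ∀ c, x c = 1 → x + (Pi.single c 1 + Pi.single b 1) ∈ K := by
    intro c hc
    refine (key c b fun h6 => ?_).2
    by_cases hca : c = a
    · rw [hca] at h6
      exact hab h6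
    have hcb : c ≠ b := by
      rintro rfl
      rw [hb] at hc
      exact absurd hc (by decide)
    have h7 : Equiv.swap c a ∈ C := by
      by_contra h8
      exact (key c a h8).1 (hc.trans ha.symm)
    apply hab
    have h8 : Equiv.swap c a * Equiv.swap c b * (Equiv.swap c a)⁻¹ = Equiv.swap a b := by
      rw [← Equiv.swap_apply_apply, Equiv.swap_apply_left,
        Equiv.swap_apply_of_ne_of_ne hcb.symm hne.symm]
    rw [← h8]
    exact C.mul_mem (C.mul_mem h7 h6) (C.inv_mem h7)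
  have h6 : ∀ c, x c = 1 → (Pi.single c 1 + Pi.single a 1 : Ω → ZMod 2) ∈ K := by
    intro c hc
    have h7 := K.add_mem (h5 c hc) (h5 a ha)
    have h8 : x + (Pi.single c 1 + Pi.single b 1) + (x + (Pi.single a 1 + Pi.single b 1)) =
        (Pi.single c 1 + Pi.single a 1) + ((x + x) + ((Pi.single b 1 + Pi.single b 1))) := by
      abel
    rw [h8, add_self, add_self, add_zero, add_zero] at h7
    exact h7
  apply hxK
  have h7 : x = ∑ c, x c • (Pi.single c 1 + Pi.single a 1 : Ω → ZMod 2) := by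
    simp only [smul_add, Finset.sum_add_distrib, ← Finset.sum_smul, hs, zero_smul, add_zero]
    conv_lhs => rw [← Finset.univ_sum_single x]
    refine Finset.sum_congr rfl fun i _ => ?_
    rw [← Pi.single_smul, smul_eq_mul, mul_one]
  rw [h7]
  refine K.sum_mem fun c _ => ?_
  rcases zmod_two (x c) with h8 | h8
  · rw [h8, zero_smul]
    exact K.zero_mem
  · rw [h8, one_smul]
    exact h6 c h8

/-- The pairing of an even set. -/
theorem exists_pairing : ∀ (k : ℕ) (D : Finset Ω), D.card = 2 * k →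
    ∃ (θ : Perm Ω) (e : Ω → ZMod 2),
      θ ∈ Subgroup.closure {σ : Perm Ω | ∃ a ∈ D, ∃ b ∈ D, σ = Equiv.swap a b} ∧
      θ * θ = 1 ∧ (∀ i, i ∉ D → θ i = i) ∧ (∀ i, i ∉ D → e i = 0) ∧
      e + e ∘ θ = fun i => if i ∈ D then 1 else 0 := by
  intro k
  induction k with
  | zero =>
    intro D hD
    have h1 : D = ∅ := Finset.card_eq_zero.1 (by omega)
    subst h1
    refine ⟨1, 0, Subgroup.one_mem _, one_mul _, fun _ _ => rfl, fun _ _ => rfl, ?_⟩
    funext i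
    simp
  | succ k ih =>
    intro D hD
    obtain ⟨a, ha, b, hb, hab⟩ := Finset.one_lt_card.1 (show 1 < D.card by omega)
    set D' := (D.erase a).erase b with hD'
    have hb' : b ∈ D.erase a := Finset.mem_erase.2 ⟨hab.symm, hb⟩
    have hc : D'.card = 2 * k := by
      rw [hD', Finset.card_erase_of_mem hb', Finset.card_erase_of_mem ha]
      omega
    obtain ⟨θ, e, hθ, hθ2, hf, he, hs⟩ := ih D' hc
    have haD' : a ∉ D' := by simp [hD']
    have hbD' : b ∉ D' := by simp [hD']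
    have hD'D : D' ⊆ D := (Finset.erase_subset _ _).trans (Finset.erase_subset _ _)
    have hθa := hf a haD'
    have hθb := hf b hbD'
    have hconj : θ * Equiv.swap a b = Equiv.swap a b * θ := by
      have h1 : θ * Equiv.swap a b * θ⁻¹ = Equiv.swap a b := by
        rw [← Equiv.swap_apply_apply, hθa, hθb]
      calc θ * Equiv.swap a b = θ * Equiv.swap a b * θ⁻¹ * θ := by group
        _ = _ := by rw [h1]
    refine ⟨θ * Equiv.swap a b, e + Pi.single a 1, ?_, ?_, ?_, ?_, ?_⟩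
    · refine Subgroup.mul_mem _ (Subgroup.closure_mono ?_ hθ)
        (Subgroup.subset_closure ⟨a, ha, b, hb, rfl⟩)
      rintro σ ⟨c, hc, d, hd, rfl⟩
      exact ⟨c, hD'D hc, d, hD'D hd, rfl⟩
    · calc θ * Equiv.swap a b * (θ * Equiv.swap a b)
          = θ * (Equiv.swap a b * θ) * Equiv.swap a b := by group
        _ = (θ * θ) * (Equiv.swap a b * Equiv.swap a b) := by rw [← hconj]; group
        _ = 1 := by rw [hθ2, Equiv.swap_mul_self, one_mul]
    · intro i hi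
      have h1 : i ≠ a := by rintro rfl; exact hi ha
      have h2 : i ≠ b := by rintro rfl; exact hi hb
      rw [Perm.mul_apply, Equiv.swap_apply_of_ne_of_ne h1 h2]
      exact hf i fun h => hi (hD'D h)
    · intro i hi
      have h1 : i ≠ a := by rintro rfl; exact hi ha
      rw [Pi.add_apply, he i fun h => hi (hD'D h), Pi.single_eq_of_ne h1, add_zero]
    · funext i
      have hi' := congrFun hs i
      simp only [Pi.add_apply, Function.comp_apply, Perm.mul_apply] at hi' ⊢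
      by_cases h1 : i = a
      · subst h1
        rw [Equiv.swap_apply_left, hθb, he i haD', he b hbD', Pi.single_eq_same,
          Pi.single_eq_of_ne hab.symm, if_pos ha]
        decide
      · by_cases h2 : i = b
        · subst h2
          rw [Equiv.swap_apply_right, hθa, he i hbD', he a haD', Pi.single_eq_same,
            Pi.single_eq_of_ne h1, if_pos hb]
          decide
        · rw [Equiv.swap_apply_of_ne_of_ne h1 h2, Pi.single_eq_of_ne h1]
          have h3 : θ i ≠ a := by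
            intro h4
            apply h1
            exact θ.injective (h4.trans hθa.symm)
          rw [Pi.single_eq_of_ne h3, add_zero, add_zero, hi']
          have h4 : i ∈ D' ↔ i ∈ D := by simp [hD', h1, h2]
          simp only [h4]

/-- Step (5) of THEOREM BL*. -/
theorem mem_of_pairing {U : AddSubgroup (Ω → ZMod 2)} {θ : Perm Ω} {e d : Ω → ZMod 2}
    (hd : d ∘ θ = d) (he : e + e ∘ θ = d) (hs : ∀ x, x ∈ U ∨ x + d ∈ U)
    (hi : ∀ x ∈ U, x ∘ θ ∈ U) : d ∈ U := by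
  rw [← he]
  rcases hs e with h | h
  · exact U.add_mem h (hi e h)
  · have h1 := U.add_mem h (hi _ h)
    have h2 : e + d + (e + d) ∘ θ = e + e ∘ θ + (d + d) := by
      have h3 : (e + d) ∘ θ = e ∘ θ + d := by
        conv_rhs => rw [← hd]
        rfl
      rw [h3]
      abel
    rw [h2, add_self, add_zero] at h1
    exact h1

end Cycle

end Cfsg.Agent.Omega.NSix.NoBlk.Comb

end
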